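import Cfsg.Agent.Lib.Fus.J3Uniq.Points

/-!
# Coordinates in the group of order sixteen
-/

set_option autoImplicit false
set_option linter.unusedSectionVars false
set_option linter.style.haveILetI false

namespace Cfsg.Agent.Fus.J3Uniq

/-- Coordinates. -/
abbrev Vec := Fin 4 → ZMod 2

/-- A power with exponent modulo two. -/
def pw {G : Type*} [Group G] (c : ZMod 2) (x : G) : G := if c = 0 then 1 else x

/-- The linear map with given columns. -/
def lin (M : Fin 4 → Vec) (p : Vec) : Vec := fun i => p 0 * M 0 i + p 1 * M 1 i + p 2 * M 2 i + p 3 * M 3 i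

/-- The action of `z`. -/
def mZ : Fin 4 → Vec := ![![1, 0, 0, 0], ![0, 1, 0, 0], ![0, 1, 1, 0], ![1, 1, 0, 1]]

/-- The action of `d`. -/
def mD : Fin 4 → Vec := ![![1, 0, 0, 0], ![0, 1, 0, 0], ![1, 0, 1, 0], ![0, 1, 0, 1]]

/-- The action of `v`. -/
def mV : Fin 4 → Vec := ![![0, 0, 1, 0], ![0, 0, 0, 1], ![1, 0, 0, 1], ![0, 1, 1, 1]]

theorem lin_dvv : ∀ p : Vec, (fun q => lin mD (lin mV (lin mV q)))^[3] p = p := by decide +kernel

theorem lin_dv : ∀ p : Vec, (fun q => lin mD (lin mV q))^[5] p = p := by decide +kernel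

theorem lin_zdv : ∀ p : Vec, (fun q => lin mZ (lin mD (lin mV q)))^[3] p = p := by decide +kernel

variable {G : Type*} [Group G] {R : Subgroup G} {e0 e1 e2 e3 : G}

/-- The element with given coordinates. -/
def val (e0 e1 e2 e3 : G) (p : Vec) : G := pw (p 0) e0 * pw (p 1) e1 * (pw (p 2) e2 * pw (p 3) e3)

theorem pw_mem {c : ZMod 2} {x : G} (hx : x ∈ R) : pw c x ∈ R := by
  unfold pw; split
  · exact R.one_mem
  · exact hx

theorem pw_add (c c' : ZMod 2) {x : G} (hx : x * x = 1) : pw (c + c') x = pw c x * pw c' x := by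
  have h : ∀ c : ZMod 2, c = 0 ∨ c = 1 := by decide
  rcases h c with rfl | rfl <;> rcases h c' with rfl | rfl <;>
    simp [pw, hx, show (1 : ZMod 2) + 1 = 0 by decide]

theorem val_mem (h0 : e0 ∈ R) (h1 : e1 ∈ R) (h2 : e2 ∈ R) (h3 : e3 ∈ R) (p : Vec) : val e0 e1 e2 e3 p ∈ R :=
  R.mul_mem (R.mul_mem (pw_mem h0) (pw_mem h1)) (R.mul_mem (pw_mem h2) (pw_mem h3))

theorem val_add (hc : ∀ a ∈ R, ∀ b ∈ R, a * b = b * a) (hsq : ∀ a ∈ R, a * a = 1)
    (h0 : e0 ∈ R) (h1 : e1 ∈ R) (h2 : e2 ∈ R) (h3 : e3 ∈ R) (p q : Vec) :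
    val e0 e1 e2 e3 (p + q) = val e0 e1 e2 e3 p * val e0 e1 e2 e3 q := by
  have sw : ∀ {a b c d : G}, b ∈ R → c ∈ R → a * b * (c * d) = a * c * (b * d) := fun {a b c d} hb hc' => by
    calc a * b * (c * d) = a * (b * c) * d := by group
      _ = a * (c * b) * d := by rw [hc b hb c hc']
      _ = a * c * (b * d) := by group
  simp only [val, Pi.add_apply, pw_add _ _ (hsq _ h0), pw_add _ _ (hsq _ h1), pw_add _ _ (hsq _ h2),
    pw_add _ _ (hsq _ h3)]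
  rw [sw (pw_mem h0) (pw_mem h1), sw (a := pw (p 2) e2) (pw_mem h2) (pw_mem h3),
    sw (R.mul_mem (pw_mem h0) (pw_mem h1)) (R.mul_mem (pw_mem h2) (pw_mem h3))]

theorem val_conj (hc : ∀ a ∈ R, ∀ b ∈ R, a * b = b * a) (hsq : ∀ a ∈ R, a * a = 1)
    (h0 : e0 ∈ R) (h1 : e1 ∈ R) (h2 : e2 ∈ R) (h3 : e3 ∈ R) {g : G} {M : Fin 4 → Vec}
    (g0 : g * e0 * g⁻¹ = val e0 e1 e2 e3 (M 0)) (g1 : g * e1 * g⁻¹ = val e0 e1 e2 e3 (M 1))
    (g2 : g * e2 * g⁻¹ = val e0 e1 e2 e3 (M 2)) (g3 : g * e3 * g⁻¹ = val e0 e1 e2 e3 (M 3)) (p : Vec) :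
    g * val e0 e1 e2 e3 p * g⁻¹ = val e0 e1 e2 e3 (lin M p) := by
  have hpw : ∀ (c : ZMod 2) (x : G) (m : Vec), g * x * g⁻¹ = val e0 e1 e2 e3 m →
      g * pw c x * g⁻¹ = val e0 e1 e2 e3 (fun i => c * m i) := by
    intro c x m hx
    unfold pw
    split
    · next h => subst h; simp [val, pw]
    · next h =>
      obtain rfl : c = 1 := (show ∀ c : ZMod 2, c ≠ 0 → c = 1 by decide) c h
      simpa using hx
  rw [show lin M p = (fun i => p 0 * M 0 i) + (fun i => p 1 * M 1 i) + ((fun i => p 2 * M 2 i) + fun i => p 3 * M 3 i)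
    from funext fun i => by simp [lin, add_assoc]]
  rw [val_add hc hsq h0 h1 h2 h3, val_add hc hsq h0 h1 h2 h3, val_add hc hsq h0 h1 h2 h3,
    ← hpw _ _ _ g0, ← hpw _ _ _ g1, ← hpw _ _ _ g2, ← hpw _ _ _ g3]
  simp only [val]
  group

end Cfsg.Agent.Fus.J3Uniq
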