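import Cfsg.Agent.Lib.Invol.J3Type.Base
import Cfsg.Agent.Lib.Invol.HJ.Turn

/-!
# Elementary groups of order sixteen in the centralizer of an involution
-/

set_option autoImplicit false
set_option linter.unusedSectionVars false
set_option linter.style.haveILetI false

namespace Cfsg.Agent.Fus.J3Uniq

open Cfsg Cfsg.Agent.Invol.HJ Cfsg.Agent.Invol.J3Type

set_option synthInstance.maxSize 4096 in
theorem a5_fix_count : ∀ i : Fin 5, (Finset.univ.filter fun σ : alternatingGroup (Fin 5) =>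
    σ * σ = 1 ∧ (σ : Equiv.Perm (Fin 5)) i = i).card = 4 := by decide +kernel

set_option synthInstance.maxSize 4096 in
theorem a5_fix_vec : ∀ i : Fin 5, ∀ σ : alternatingGroup (Fin 5), σ * σ = 1 → (σ : Equiv.Perm (Fin 5)) i = i →
    ∀ f : Fin 5 → ZMod 2, ∑ k, f k = 0 → f i = 0 →
      (∀ k, f k + f ((σ : Equiv.Perm (Fin 5)) k) = 0) ∨
      (∀ k, f k + f ((σ : Equiv.Perm (Fin 5)) k) = ev i k) := by decide +kernel

variable {G : Type*} [Group G] [Finite G] {z : G} {Q : Subgroup G}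

/-- An elementary group of order sixteen through `z` is the centralizer of `z` and one of its members. -/
theorem sixteen_eq (h : Core z Q) {A : Subgroup G} (hA : Nat.card A = 16) (hc : ∀ a ∈ A, ∀ b ∈ A, a * b = b * a)
    (hsq : ∀ a ∈ A, a * a = 1) (hzA : z ∈ A) {y : G} (hy : y ∈ A) (hyQ : y ∉ Q) :
    A = Subgroup.centralizer ({z} : Set G) ⊓ Subgroup.centralizer ({y} : Set G) := by
  have hyC : y ∈ Subgroup.centralizer ({z} : Set G) := mem_cent_iff.2 (hc y hy z hzA)
  obtain ⟨x, σ, L⟩ := local_data h hyC (hsq y hy) hyQ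
  refine Subgroup.eq_of_le_of_card_ge (fun a ha => ?_) ?_
  · exact Subgroup.mem_inf.2 ⟨mem_cent_iff.2 (hc a ha z hzA), mem_cent_iff.2 (hc a ha y hy)⟩
  · rw [L.card_sixteen h hyC (hsq y hy), hA]

theorem mem_four (h : Core z Q) (M : Model z Q) {i : Fin 5} {q : G} (hq : q ∈ Q)
    (hv : M.vec q = 0 ∨ M.vec q = ev i) : q = 1 ∨ q = z ∨ q = M.a i ∨ q = z * M.a i := by
  rcases hv with e | e
  · exact ((M.vec_basic h).2 q hq e).imp_right Or.inl
  · rcases M.vec_inj h (M.mem i).1 hq (by rw [M.vec_a, e]) with e' | e'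
    · exact Or.inr (Or.inr (Or.inl e'))
    · exact Or.inr (Or.inr (Or.inr e'))

/-- The part of an elementary group inside `Q`. -/
theorem inQ_four (h : Core z Q) (M : Model z Q) {A : Subgroup G} (hc : ∀ a ∈ A, ∀ b ∈ A, a * b = b * a)
    (hsq : ∀ a ∈ A, a * a = 1) (hzA : z ∈ A) :
    ∃ i, ∀ q ∈ A, q ∈ Q → q = 1 ∨ q = z ∨ q = M.a i ∨ q = z * M.a i := by
  by_cases hX : ∃ q ∈ A, q ∈ nonCentralInvol z Q
  · obtain ⟨q0, h0, h0X⟩ := hX
    obtain ⟨i, hi⟩ := M.cover q0 h0X
    have hai : M.a i ∈ A := by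
      rcases hi with rfl | rfl
      · exact h0
      · have := A.mul_mem hzA h0
        rwa [← mul_assoc, h.z_sq, one_mul] at this
    refine ⟨i, fun q hq hqQ => ?_⟩
    by_cases q1 : q = 1
    · exact Or.inl q1
    by_cases qz : q = z
    · exact Or.inr (Or.inl qz)
    obtain ⟨j, hj⟩ := M.cover q ⟨hqQ, hsq q hq, q1, qz⟩
    have haj : M.a j ∈ A := by
      rcases hj with rfl | rfl
      · exact hq
      · have := A.mul_mem hzA hq
        rwa [← mul_assoc, h.z_sq, one_mul] at this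
    obtain rfl : j = i := by
      by_contra hne
      exact M.anti j i hne (hc _ haj _ hai)
    exact Or.inr (Or.inr hj)
  · refine ⟨0, fun q hq hqQ => ?_⟩
    by_cases q1 : q = 1
    · exact Or.inl q1
    by_cases qz : q = z
    · exact Or.inr (Or.inl qz)
    exact absurd ⟨q, hq, hqQ, hsq q hq, q1, qz⟩ hX

theorem not_le_Q (h : Core z Q) {A : Subgroup G} (hA : Nat.card A = 16) (hc : ∀ a ∈ A, ∀ b ∈ A, a * b = b * a)
    (hsq : ∀ a ∈ A, a * a = 1) (hzA : z ∈ A) : ∃ y ∈ A, y ∉ Q := by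
  classical
  haveI := Fintype.ofFinite G
  by_contra hcon
  push Not at hcon
  obtain ⟨M⟩ := h.model
  obtain ⟨i, hi⟩ := inQ_four h M hc hsq hzA
  have h4 : Nat.card A ≤ ({1, z, M.a i, z * M.a i} : Finset G).card := by
    rw [← Nat.card_eq_finsetCard]
    exact Nat.card_le_card_of_injective
      (fun a : A => (⟨a.1, by simpa using hi a a.2 (hcon a a.2)⟩ : ↥({1, z, M.a i, z * M.a i} : Finset G)))
      (fun a b e => Subtype.ext (congrArg (fun w => (w.1 : G)) e))
  have := h4.trans Finset.card_le_four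
  omega

/-- An involution commuting with a pair of an elementary group moves it inside the pair. -/
theorem comm_four_core (h : Core z Q) {A : Subgroup G} (hA : Nat.card A = 16)
    (hc : ∀ a ∈ A, ∀ b ∈ A, a * b = b * a) (hsq : ∀ a ∈ A, a * a = 1) (hzA : z ∈ A)
    {a : G} (ha : a ∈ A) (ha1 : a ≠ 1) (haz : a ≠ z) {e : G} (he : e * e = 1) (hez : e * z = z * e)
    (hea : e * a = a * e) {r : G} (hr : r ∈ A) :
    e * r * e * r = 1 ∨ e * r * e * r = z ∨ e * r * e * r = a ∨ e * r * e * r = z * a := by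
  classical
  by_cases haQ : a ∈ Q
  swap
  · left
    have heA : e ∈ A := by
      rw [sixteen_eq h hA hc hsq hzA ha haQ]
      exact Subgroup.mem_inf.2 ⟨mem_cent_iff.2 hez, mem_cent_iff.2 hea⟩
    rw [hc e heA r hr, mul_assoc r e e, he, mul_one, hsq r hr]
  obtain ⟨M⟩ := h.model
  obtain ⟨i0, hi0⟩ := inQ_four h M hc hsq hzA
  obtain ⟨i, hi⟩ := M.cover a ⟨haQ, hsq a ha, ha1, haz⟩
  have hinC : ∀ m ∈ A, m ∈ Subgroup.centralizer ({z} : Set G) := fun m hm => mem_cent_iff.2 (hc m hm z hzA)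
  let π : A →* alternatingGroup (Fin 5) := M.ptA.comp (Subgroup.inclusion fun m hm => hinC m hm)
  set E : Subgroup.centralizer ({z} : Set G) := ⟨e, mem_cent_iff.2 hez⟩
  have hfix : ∀ (c : Subgroup.centralizer ({z} : Set G)), (c : G) * a = a * c →
      (M.ptA c : Equiv.Perm (Fin 5)) i = i := fun c hca => by
    rw [M.ptA_coe]; exact h.pt_fix M hi hca
  let T := Finset.univ.filter fun σ : alternatingGroup (Fin 5) => σ * σ = 1 ∧ (σ : Equiv.Perm (Fin 5)) i = i
  have hker : Nat.card π.ker ≤ 4 := by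
    haveI := Fintype.ofFinite G
    have hmem : ∀ m : π.ker, ((m : A) : G) ∈ ({1, z, M.a i0, z * M.a i0} : Finset G) := fun m => by
      simpa using hi0 _ (m : A).2 ((M.ptA_ker _).1 m.2)
    refine (Nat.card_le_card_of_injective (fun m : π.ker => (⟨_, hmem m⟩ : ↥({1, z, M.a i0, z * M.a i0} : Finset G)))
      fun m m' e' => Subtype.ext (Subtype.ext (congrArg (fun w => (w.1 : G)) e'))).trans ?_
    rw [Nat.card_eq_finsetCard]
    exact Finset.card_le_four
  have hrange : Nat.card π.range * Nat.card π.ker = 16 := by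
    rw [← hA, Subgroup.card_eq_card_quotient_mul_card_subgroup π.ker,
      Nat.card_congr (QuotientGroup.quotientKerEquivRange π).toEquiv]
  have hsurj : ∀ σ ∈ T, σ ∈ π.range := by
    haveI := Fintype.ofFinite π.range
    have hsub : (Finset.univ.filter fun σ => σ ∈ π.range) ⊆ T := by
      intro σ hσ
      obtain ⟨m, rfl⟩ := (Finset.mem_filter.1 hσ).2
      refine Finset.mem_filter.2 ⟨Finset.mem_univ _, ?_, hfix _ (hc m m.2 a ha)⟩
      rw [← map_mul, show m * m = 1 from Subtype.ext (hsq m m.2), map_one]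
    have hcard : T.card ≤ (Finset.univ.filter fun σ => σ ∈ π.range).card := by
      rw [a5_fix_count i, ← Fintype.card_subtype, ← Nat.card_eq_fintype_card]
      show 4 ≤ Nat.card π.range
      nlinarith
    intro σ hσ
    rw [← Finset.eq_of_subset_of_card_le hsub hcard] at hσ
    exact (Finset.mem_filter.1 hσ).2
  obtain ⟨⟨r0, hr0⟩, hπ⟩ := hsurj (M.ptA E) (Finset.mem_filter.2 ⟨Finset.mem_univ _, by
    rw [← map_mul, show E * E = 1 from Subtype.ext he, map_one], hfix E hea⟩)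
  set q := e * r0 with hqdef
  have hqQ : q ∈ Q := by
    have h1 : M.ptA (E * ⟨r0, hinC r0 hr0⟩) = 1 := by
      rw [map_mul, show M.ptA ⟨r0, hinC r0 hr0⟩ = M.ptA E from hπ, ← map_mul,
        show E * E = 1 from Subtype.ext he, map_one]
    exact (M.ptA_ker _).1 h1
  have hqa : q * a = a * q := by
    rw [hqdef, mul_assoc, hc r0 hr0 a ha, ← mul_assoc, hea, mul_assoc]
  have hk : e * r * e * r = q * (r * q⁻¹ * r⁻¹) := by
    have hri : r⁻¹ = r := inv_eq_of_mul_eq_one_right (hsq r hr)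
    have hr0i : r0⁻¹ = r0 := inv_eq_of_mul_eq_one_right (hsq r0 hr0)
    have hei : e⁻¹ = e := inv_eq_of_mul_eq_one_right he
    calc e * r * e * r = e * (r0 * r0) * r * e * r := by rw [hsq r0 hr0, mul_one]
      _ = e * r0 * (r0 * r) * e * r := by group
      _ = e * r0 * (r * r0) * e * r := by rw [hc r0 hr0 r hr]
      _ = q * (r * (r0⁻¹ * e⁻¹) * r⁻¹) := by rw [hqdef, hri, hr0i, hei]; group
      _ = q * (r * q⁻¹ * r⁻¹) := by rw [hqdef, mul_inv_rev]
  set ρ : Subgroup.centralizer ({z} : Set G) := ⟨r, hinC r hr⟩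
  have hρ : M.ptA ρ * M.ptA ρ = 1 := by rw [← map_mul, show ρ * ρ = 1 from Subtype.ext (hsq r hr), map_one]
  have hrq : r * q⁻¹ * r⁻¹ ∈ Q := h.norm r (hinC r hr) _ (Q.inv_mem hqQ)
  have hvi : M.vec q i = 0 := by
    rw [M.vec_eq_zero]
    rcases hi with rfl | rfl
    · exact hqa
    · have h1 : z * (q * M.a i) = z * (M.a i * q) := by
        calc z * (q * M.a i) = q * z * M.a i := by rw [h.zq hqQ]; group
          _ = q * (z * M.a i) := mul_assoc _ _ _
          _ = z * M.a i * q := hqa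
          _ = z * (M.a i * q) := mul_assoc _ _ _
      exact mul_left_cancel h1
  have hpp : ∀ k, M.pt ρ (M.pt ρ k) = k := fun k => by
    have := congrArg (fun σ : alternatingGroup (Fin 5) => (σ : Equiv.Perm (Fin 5)) k) hρ
    simpa [Model.ptA_coe] using this
  have hvec : ∀ k, M.vec (e * r * e * r) k = M.vec q k + M.vec q (M.pt ρ k) := fun k => by
    rw [hk, M.vec_mul h hqQ hrq, Pi.add_apply]
    congr 1
    have := M.vec_conj h ρ (Q.inv_mem hqQ) (M.pt ρ k)
    rw [hpp k, M.vec_inv h hqQ] at this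
    exact this
  have hkQ : e * r * e * r ∈ Q := hk ▸ Q.mul_mem hqQ hrq
  have hfour : M.vec (e * r * e * r) = 0 ∨ M.vec (e * r * e * r) = ev i := by
    rcases a5_fix_vec i _ hρ (hfix ρ (hc r hr a ha)) _ (M.vec_even h hqQ) hvi with e' | e'
    · exact Or.inl (funext fun k => by rw [hvec k, ← M.ptA_coe]; exact e' k)
    · exact Or.inr (funext fun k => by rw [hvec k, ← M.ptA_coe]; exact e' k)
  rcases mem_four h M hkQ hfour with e1 | e1 | e1 | e1
  · exact Or.inl e1
  · exact Or.inr (Or.inl e1)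
  · rcases hi with rfl | rfl
    · exact Or.inr (Or.inr (Or.inl e1))
    · exact Or.inr (Or.inr (Or.inr (by rw [e1, ← mul_assoc, h.z_sq, one_mul])))
  · rcases hi with rfl | rfl
    · exact Or.inr (Or.inr (Or.inr e1))
    · exact Or.inr (Or.inr (Or.inl e1))

/-- The same at any involution. -/
theorem comm_four (h : Invol.J3Type.Setting z Q) {A : Subgroup G} (hA : Nat.card A = 16)
    (hc : ∀ a ∈ A, ∀ b ∈ A, a * b = b * a) (hsq : ∀ a ∈ A, a * a = 1) {u a : G} (hu : u ∈ A) (hu1 : u ≠ 1)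
    (ha : a ∈ A) (ha1 : a ≠ 1) (hau : a ≠ u) {e : G} (he : e * e = 1) (heu : e * u = u * e)
    (hea : e * a = a * e) {r : G} (hr : r ∈ A) :
    e * r * e * r = 1 ∨ e * r * e * r = u ∨ e * r * e * r = a ∨ e * r * e * r = u * a := by
  obtain ⟨g, hg⟩ := _root_.isConj_iff.1 (h.one u (two_iff.2 ⟨hsq u hu, hu1⟩))
  let c := (MulAut.conj g).toMonoidHom
  have cinj : Function.Injective c := (MulAut.conj g).injective
  have hm : ∀ {y}, y ∈ A → c y ∈ A.map c := fun hy => ⟨_, hy, rfl⟩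
  have hcu : c u = z := hg
  have := comm_four_core h.toCore (A := A.map c) (by rw [Subgroup.card_map_of_injective cinj, hA])
    (by rintro _ ⟨x, hx, rfl⟩ _ ⟨y, hy, rfl⟩; rw [← map_mul, hc x hx y hy, map_mul])
    (by rintro _ ⟨x, hx, rfl⟩; rw [← map_mul, hsq x hx, map_one])
    (hcu ▸ hm hu) (hm ha) (fun e1 => ha1 (cinj (by rw [e1, map_one]))) (fun e1 => hau (cinj (e1.trans hcu.symm)))
    (e := c e) (by rw [← map_mul, he, map_one]) (by rw [← hcu, ← map_mul, heu, map_mul])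
    (by rw [← map_mul, hea, map_mul]) (hm hr)
  rw [← hcu, ← map_mul, ← map_mul, ← map_mul, ← map_mul] at this
  rcases this with e1 | e1 | e1 | e1
  · exact Or.inl (cinj (e1.trans (map_one c).symm))
  · exact Or.inr (Or.inl (cinj e1))
  · exact Or.inr (Or.inr (Or.inl (cinj e1)))
  · exact Or.inr (Or.inr (Or.inr (cinj e1)))

/-- An elementary group of order sixteen is its own centralizer. -/
theorem self_cent (h : Invol.J3Type.Setting z Q) {A : Subgroup G} (hA : Nat.card A = 16)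
    (hc : ∀ a ∈ A, ∀ b ∈ A, a * b = b * a) (hsq : ∀ a ∈ A, a * a = 1) {x : G}
    (hx : ∀ a ∈ A, x * a = a * x) : x ∈ A := by
  haveI : Nontrivial A := Finite.one_lt_card_iff_nontrivial.1 (by rw [hA]; norm_num)
  obtain ⟨⟨u, hu⟩, hu1⟩ := exists_ne (1 : A)
  obtain ⟨g, hg⟩ := _root_.isConj_iff.1 (h.one u (two_iff.2 ⟨hsq u hu, fun e => hu1 (Subtype.ext e)⟩))
  let c := (MulAut.conj g).toMonoidHom
  have cinj : Function.Injective c := (MulAut.conj g).injective
  have hA' : Nat.card (A.map c) = 16 := by rw [Subgroup.card_map_of_injective cinj, hA]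
  have hc' : ∀ a ∈ A.map c, ∀ b ∈ A.map c, a * b = b * a := by
    rintro _ ⟨p, hp, rfl⟩ _ ⟨q, hq, rfl⟩; rw [← map_mul, hc p hp q hq, map_mul]
  have hsq' : ∀ a ∈ A.map c, a * a = 1 := by rintro _ ⟨p, hp, rfl⟩; rw [← map_mul, hsq p hp, map_one]
  have hz : z ∈ A.map c := ⟨u, hu, hg⟩
  obtain ⟨y, hy, hyQ⟩ := not_le_Q h.toCore hA' hc' hsq' hz
  have hx' : ∀ m ∈ A.map c, c x * m = m * c x := by
    rintro _ ⟨p, hp, rfl⟩; rw [← map_mul, hx p hp, map_mul]
  have : c x ∈ A.map c := by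
    rw [sixteen_eq h.toCore hA' hc' hsq' hz hy hyQ]
    exact Subgroup.mem_inf.2 ⟨mem_cent_iff.2 (hx' z hz), mem_cent_iff.2 (hx' y hy)⟩
  obtain ⟨p, hp, e⟩ := this
  exact cinj e ▸ hp

end Cfsg.Agent.Fus.J3Uniq
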