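import Cfsg.Agent.Lib.Invol.J3Type.Order
import Cfsg.Agent.Lib.Invol.J3Type.ThreeFusion

/-!
# A relation inside the centralizer of an element of order three
-/

set_option autoImplicit false
set_option linter.unusedSectionVars false
set_option linter.style.haveILetI false

namespace Cfsg.Agent.Fus.J3Uniq

open Cfsg Cfsg.Agent.Invol.HJ Cfsg.Agent.Invol.J3Type

/-- An involution of the alternating group of degree six. -/
def z6 : alternatingGroup (Fin 6) :=
  ⟨Equiv.swap 0 1 * Equiv.swap 2 3, Equiv.Perm.mem_alternatingGroup.2 (by decide)⟩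

set_option maxRecDepth 4000 in
theorem a6_conj : ∀ x : alternatingGroup (Fin 6), x * x = 1 → x ≠ 1 → ∃ c, c * x * c⁻¹ = z6 := by decide +kernel

set_option maxRecDepth 4000 in
set_option synthInstance.maxSize 4096 in
theorem a6_five0 : ∀ d : alternatingGroup (Fin 6), d * d = 1 → z6 * d = d * z6 →
    ∀ j : alternatingGroup (Fin 6), j * j = 1 → z6 * j = j * z6 → d * j * (d * j) = z6 →
    ∀ m : alternatingGroup (Fin 6), m * m = 1 → (z6 * m) ^ 5 = 1 → z6 * m ≠ 1 → (d * j * m) ^ 5 = 1 := by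
  decide +kernel

theorem a6_five {x d j m : alternatingGroup (Fin 6)} (hx : x * x = 1) (hx1 : x ≠ 1) (hd : d * d = 1)
    (hxd : x * d = d * x) (hj : j * j = 1) (hxj : x * j = j * x) (hdj : d * j * (d * j) = x) (hm : m * m = 1)
    (h5 : (x * m) ^ 5 = 1) (h1 : x * m ≠ 1) : (d * j * m) ^ 5 = 1 := by
  obtain ⟨c, hc⟩ := a6_conj x hx hx1
  let f := MulAut.conj c
  have hfx : f x = z6 := hc
  apply f.injective
  rw [map_pow, map_mul, map_mul, map_one]
  refine a6_five0 (f d) (by rw [← map_mul, hd, map_one]) (by rw [← hfx, ← map_mul, hxd, map_mul]) (f j)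
    (by rw [← map_mul, hj, map_one]) (by rw [← hfx, ← map_mul, hxj, map_mul])
    (by rw [← hfx, ← map_mul, ← map_mul, hdj]) (f m) (by rw [← map_mul, hm, map_one])
    (by rw [← hfx, ← map_mul, ← map_pow, h5, map_one]) ?_
  rw [← hfx, ← map_mul]
  exact fun e => h1 (f.injective (by rw [e, map_one]))

variable {G : Type*} [Group G] [Finite G] {z : G} {Q : Subgroup G}

/-- The relation in the centralizer of a fixed element of order three. -/
theorem three_five_at [IsSimpleGroup G] (h : Invol.J3Type.Setting z Q) {y a b n : G} (D : YData z Q y a b n)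
    {d j m : G} (hzy : z * y = y * z) (hdy : d * y = y * d) (hjy : j * y = y * j) (hmy : m * y = y * m)
    (hd : d * d = 1) (hj : j * j = 1) (hm : m * m = 1) (hzd : z * d = d * z) (hzj : z * j = j * z)
    (hdj : d * j * (d * j) = z) (h5 : orderOf (z * m) = 5) : (d * j * m) ^ 5 = 1 := by
  classical
  set C := Subgroup.centralizer ({y} : Set G) with hC
  have hzC : z ∈ C := mem_cent_iff.2 hzy
  have hmC : m ∈ C := mem_cent_iff.2 hmy
  have hd5 : 5 ∣ Nat.card C := h5 ▸ Subgroup.orderOf_dvd_natCard _ (C.mul_mem hzC hmC)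
  obtain ⟨h1080, h360⟩ := D.card_of_five h hd5
  haveI := (D.quot_simple h).1
  obtain ⟨e⟩ := Cfsg.Agent.S0497.result h360
  let φ : C →* alternatingGroup (Fin 6) :=
    e.toMonoidHom.comp (QuotientGroup.mk' ((Subgroup.zpowers y).subgroupOf C))
  have hker : ∀ g : C, φ g = 1 → (g : G) ∈ Subgroup.zpowers y := fun g hg => by
    have h1 : e (QuotientGroup.mk' ((Subgroup.zpowers y).subgroupOf C) g) = 1 := hg
    rw [MulEquiv.map_eq_one_iff, QuotientGroup.mk'_apply, QuotientGroup.eq_one_iff] at h1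
    exact h1
  have hy3 : y ^ 3 = 1 := D.y_pow_three
  have hpow : ∀ {g : G}, g ∈ Subgroup.zpowers y → g ^ 3 = 1 := by
    rintro g ⟨i, rfl⟩
    show (y ^ i) ^ 3 = 1
    rw [← zpow_natCast, ← zpow_mul, mul_comm, zpow_mul, zpow_natCast, hy3, one_zpow]
  set Z : C := ⟨z, hzC⟩
  set D' : C := ⟨d, mem_cent_iff.2 hdy⟩
  set J : C := ⟨j, mem_cent_iff.2 hjy⟩
  set M' : C := ⟨m, hmC⟩
  have hone : ∀ {g : C}, g * g = 1 → φ g * φ g = 1 := fun hg => by rw [← map_mul, hg, map_one]
  have hcom : ∀ {g k : C}, g * k = k * g → φ g * φ k = φ k * φ g := fun hg => by rw [← map_mul, hg, map_mul]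
  have hzne : φ Z ≠ 1 := fun e1 => by
    have h1 : z ^ 3 = 1 := hpow (hker Z e1)
    rw [pow_three, h.toCore.z_sq, mul_one] at h1
    exact h.toCore.ne_one h1
  have hzmne : φ Z * φ M' ≠ 1 := fun e1 => by
    have h1 : (z * m) ^ 3 = 1 := hpow (hker (Z * M') (by rw [map_mul, e1]))
    have := orderOf_dvd_of_pow_eq_one h1
    rw [h5] at this
    norm_num at this
  have key := a6_five (hone (g := Z) (Subtype.ext h.toCore.z_sq)) hzne (hone (g := D') (Subtype.ext hd))
    (hcom (Subtype.ext hzd)) (hone (g := J) (Subtype.ext hj)) (hcom (Subtype.ext hzj))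
    (by rw [← map_mul, ← map_mul]; exact congrArg φ (Subtype.ext hdj))
    (hone (g := M') (Subtype.ext hm))
    (by rw [← map_mul, ← map_pow, show (Z * M') ^ 5 = 1 from Subtype.ext (h5 ▸ pow_orderOf_eq_one (z * m)), map_one])
    hzmne
  set P5 : C := (D' * J * M') ^ 5 with hP5
  have hP : (P5 : G) ∈ Subgroup.zpowers y := hker _ (by rw [hP5, map_pow, map_mul, map_mul, key])
  -- the transfer to the Sylow subgroup of order twenty seven
  obtain ⟨f, R, T⟩ := D.exists_tdata h hd5
  have hab := T.comm D.y3 h1080 (order_eq h)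
  set R' := R.subgroupOf C with hR'
  haveI : IsMulCommutative R' := ⟨⟨fun p q => Subtype.ext (Subtype.ext (hab _ p.2 _ q.2))⟩⟩
  have hR'card : Nat.card R' = 27 := by
    rw [hR', Nat.card_congr (Subgroup.subgroupOfEquivOfLe T.le).toEquiv, T.card]
  have hidx : R'.index = 40 := by
    have := R'.card_mul_index
    rw [hR'card, h1080] at this
    omega
  haveI : R'.FiniteIndex := ⟨by rw [hidx]; norm_num⟩
  let Y : C := ⟨y, mem_cent_iff.2 rfl⟩
  have hYc : ∀ g : C, g * Y = Y * g := fun g => Subtype.ext (mem_cent_iff.1 g.2)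
  have hY3 : Y ^ 3 = 1 := Subtype.ext hy3
  letI : CommGroup R' := { (inferInstance : Group R') with mul_comm := fun p q => IsMulCommutative.is_comm.comm p q }
  let τ : C →* R' := MonoidHom.transfer (MonoidHom.id R')
  have hτY : (τ Y : C) = Y := by
    rw [show τ Y = _ from MonoidHom.transfer_eq_pow (MonoidHom.id R') Y fun k g0 _ => by
      rw [mul_assoc, ← ((show Commute g0 Y from hYc g0).pow_right k).eq, inv_mul_cancel_left]]
    show Y ^ R'.index = Y
    rw [hidx, show (40 : ℕ) = 3 * 13 + 1 from rfl, pow_succ, pow_mul, hY3, one_pow, one_mul]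
  have hτinv : ∀ g : C, g * g = 1 → τ g = 1 := fun g hg => by
    have h1 : τ g ^ 2 = 1 := by rw [pow_two, ← map_mul, hg, map_one]
    have h2 : τ g ^ 27 = 1 := hR'card ▸ pow_card_eq_one'
    rw [← pow_one (τ g), show 1 = Nat.gcd 2 27 by norm_num, pow_gcd_eq_one.2 ⟨h1, h2⟩]
  have hτP : τ P5 = 1 := by
    rw [hP5, map_pow, map_mul, map_mul, hτinv D' (Subtype.ext hd), hτinv J (Subtype.ext hj),
      hτinv M' (Subtype.ext hm), one_mul, one_mul, one_pow]
  obtain ⟨i, hi⟩ := hP
  have hPi : Y ^ i = P5 := Subtype.ext (by rw [← hi]; rfl)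
  have : P5 = 1 := by
    rw [← hPi] at hτP ⊢
    rw [map_zpow] at hτP
    rw [← hτY, ← SubgroupClass.coe_zpow, hτP]
    rfl
  have := congrArg Subtype.val this
  simpa [hP5] using this

/-- The relation in the centralizer of an element of order three commuting with `z`. -/
theorem three_five [IsSimpleGroup G] (h : Invol.J3Type.Setting z Q) {t d j m : G} (ht : orderOf t = 3)
    (hzt : z * t = t * z) (hdt : d * t = t * d) (hjt : j * t = t * j) (hmt : m * t = t * m)
    (hd : d * d = 1) (hj : j * j = 1) (hm : m * m = 1) (hzd : z * d = d * z) (hzj : z * j = j * z)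
    (hdj : d * j * (d * j) = z) (h5 : orderOf (z * m) = 5) : (d * j * m) ^ 5 = 1 := by
  obtain ⟨y, a, b, n, D⟩ := exists_three_data h
  obtain ⟨g, hgC, hg⟩ := D.conj3 t (mem_cent_iff.2 hzt.symm) ht
  let c := MulAut.conj g
  have hcz : c z = z := by
    show g * z * g⁻¹ = z
    rw [mem_cent_iff.1 hgC, mul_inv_cancel_right]
  have hct : c t = y := hg
  have tc : ∀ {p q : G}, p * q = q * p → c p * c q = c q * c p := fun e => by rw [← map_mul, e, map_mul]
  apply c.injective
  rw [map_pow, map_mul, map_mul, map_one]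
  refine three_five_at h D (by rw [← hcz, ← hct]; exact tc hzt) (by rw [← hct]; exact tc hdt)
    (by rw [← hct]; exact tc hjt) (by rw [← hct]; exact tc hmt) (by rw [← map_mul, hd, map_one])
    (by rw [← map_mul, hj, map_one]) (by rw [← map_mul, hm, map_one]) (by rw [← hcz]; exact tc hzd)
    (by rw [← hcz]; exact tc hzj) (by rw [← map_mul, ← map_mul, hdj, hcz]) ?_
  rw [← hcz, ← map_mul, MulEquiv.orderOf_eq, h5]

end Cfsg.Agent.Fus.J3Uniq
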