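import Cfsg.Agent.Lib.Fus.J3Uniq.Coords
import Cfsg.Agent.Lib.Fus.J3Uniq.Local
import Cfsg.Agent.Lib.Fus.J3Uniq.Three

/-!
# The generator outside `SL(2,16).2` and its relations
-/

set_option autoImplicit false
set_option linter.unusedSectionVars false
set_option linter.style.haveILetI false

namespace Cfsg.Agent.Fus.J3Uniq

open Cfsg Cfsg.Agent.Invol.HJ Cfsg.Agent.Invol.J3Type Cfsg.Agent.Invol.J3Type.LTwoSixteen

set_option synthInstance.maxSize 4096 in
theorem a5_point : ∀ τ : alternatingGroup (Fin 5), τ * τ * τ = 1 → τ ≠ 1 →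
    ∀ μ : alternatingGroup (Fin 5), μ * μ = 1 → μ ≠ 1 → μ * (τ * μ * τ⁻¹) = τ * μ * τ⁻¹ * μ →
    ∀ ω : alternatingGroup (Fin 5), ω * ω = 1 → ω * τ * ω⁻¹ = τ⁻¹ →
      ∃ i, (τ : Equiv.Perm (Fin 5)) i = i ∧ (μ : Equiv.Perm (Fin 5)) i = i ∧ (ω : Equiv.Perm (Fin 5)) i ≠ i := by
  decide +kernel

variable {G : Type*} [Group G] [Finite G] {z v t s u : G} {Q R : Subgroup G}

/-- An oriented point with the extra generator `d`. -/
structure Data (z : G) (R : Subgroup G) (v t s u d : G) : Prop extends Point z R v t s u where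
  trace : v * u * v⁻¹ * (v⁻¹ * u * v) = t * u * t⁻¹
  d2 : d * d = 1
  dz : d * z = z * d
  dt : d * t = t * d
  du : d * u = u * d
  ds : d * (s * d * s) * (d * (s * d * s)) = z
  dr : d * (v * u * v⁻¹) * d * (v * u * v⁻¹) = u

theorem Point.u_notQ (P : Point z R v t s u) (h : Core z Q) : u ∉ Q := by
  intro huQ
  obtain ⟨M⟩ := h.model
  have htC : t ∈ Subgroup.centralizer ({z} : Set G) := mem_cent_iff.2 P.zt.symm
  have haQ : t * u * t⁻¹ ∈ Q := h.norm t htC u huQ
  have hzR : z ∉ R := fun e => h.ne_one (P.tfix z e P.zt.symm)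
  obtain ⟨i, hi⟩ := M.cover u ⟨huQ, P.sq u P.uR, P.u1, fun e => hzR (e ▸ P.uR)⟩
  obtain ⟨j, hj⟩ := M.cover _ ⟨haQ, P.sq _ P.aR, P.a1, fun e => hzR (e ▸ P.aR)⟩
  have hca : Commute u (t * u * t⁻¹) := P.comm u P.uR _ P.aR
  have hzi : ∀ {x : G}, x ∈ Q → Commute z x := fun hx => (h.zq hx).symm
  have key : ∀ {x x' y y' : G}, x ∈ Q → y ∈ Q → (x' = x ∨ x' = z * x) → (y' = y ∨ y' = z * y) →
      Commute x' y' → Commute x y := by
    intro x x' y y' hx hy e1 e2 hc
    have hx' : Commute x' y := by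
      rcases e2 with rfl | rfl
      · exact hc
      · have hzx : Commute x' z := by
          rcases e1 with rfl | rfl
          · exact h.zq hx
          · exact (Commute.refl z).mul_left (h.zq hx)
        have := hzx.mul_right hc
        rwa [← mul_assoc, h.z_sq, one_mul] at this
    rcases e1 with rfl | rfl
    · exact hx'
    · have := (hzi hy).mul_left hx'
      rwa [← mul_assoc, h.z_sq, one_mul] at this
  have hij : i = j := by
    by_contra hne
    exact M.anti i j hne (key (M.mem i).1 (M.mem j).1 hi hj hca)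
  subst hij
  have : t * u * t⁻¹ = z * u := by
    rcases hi with e1 | e1 <;> rcases hj with e2 | e2
    · exact absurd (e2.trans e1.symm) P.au
    · rw [e2, e1]
    · rw [e2, e1, ← mul_assoc, h.z_sq, one_mul]
    · exact absurd (e2.trans e1.symm) P.au
  refine hzR ?_
  have e3 : z = t * u * t⁻¹ * u := by rw [this, mul_assoc, P.sq u P.uR, mul_one]
  rw [e3]
  exact R.mul_mem P.aR P.uR

theorem Point.exists_data [IsSimpleGroup G] (P : Point z R v t s u) (h : Invol.J3Type.Setting z Q)
    (htr : v * u * v⁻¹ * (v⁻¹ * u * v) = t * u * t⁻¹) : ∃ d, Data z R v t s u d := by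
  classical
  have hc := h.toCore
  obtain ⟨M⟩ := hc.model
  have hzi : z⁻¹ = z := inv_eq_of_mul_eq_one_right hc.z_sq
  set C := Subgroup.centralizer ({z} : Set G)
  set w := z * s with hw
  have hw2 : w * w = 1 := by
    calc w * w = z * (s * z) * s := by rw [hw]; group
      _ = (z * z) * (s * s) := by rw [P.sz]; group
      _ = 1 := by rw [hc.z_sq, P.s2, one_mul]
  have hwt : w * t * w⁻¹ = t⁻¹ := by
    calc w * t * w⁻¹ = z * (s * t * s⁻¹) * z⁻¹ := by rw [hw]; group
      _ = t⁻¹ := by rw [P.st, ((show Commute z t from P.zt).inv_right).eq, mul_inv_cancel_right]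
  let T : C := ⟨t, mem_cent_iff.2 P.zt.symm⟩
  let W : C := ⟨w, mem_cent_iff.2 (by rw [hw, mul_assoc, P.sz])⟩
  let U : C := ⟨u, mem_cent_iff.2 P.zu.symm⟩
  have hT1 : M.ptA T ≠ 1 := fun e => prime_not_mem hc Nat.prime_three (by norm_num) P.t3 ((M.ptA_ker _).1 e)
  have hU1 : M.ptA U ≠ 1 := fun e => P.u_notQ hc ((M.ptA_ker _).1 e)
  obtain ⟨i, hτi, hμi, hωi⟩ := a5_point (M.ptA T)
    (by rw [← map_mul, ← map_mul, show T * T * T = 1 from Subtype.ext P.tpow, map_one]) hT1 (M.ptA U)
    (by rw [← map_mul, show U * U = 1 from Subtype.ext (P.sq u P.uR), map_one]) hU1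
    (by rw [← map_inv, ← map_mul, ← map_mul, ← map_mul, ← map_mul]
        exact congrArg M.ptA (Subtype.ext (P.comm u P.uR _ P.aR)))
    (M.ptA W) (by rw [← map_mul, show W * W = 1 from Subtype.ext hw2, map_one])
    (by rw [← map_inv, ← map_inv, ← map_mul, ← map_mul]; exact congrArg M.ptA (Subtype.ext hwt))
  rw [M.ptA_coe] at hτi hμi hωi
  set d := M.a i with hd
  have hdQ : d ∈ Q := (M.mem i).1
  have hd2 : d * d = 1 := (M.mem i).2.1
  have hdz : d * z = z * d := hc.zq hdQ
  have hdt : d * t = t * d := by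
    have h1 := M.pt_spec T i
    rw [hτi] at h1
    rcases h1 with e | e
    · exact (mul_inv_eq_iff_eq_mul.1 e).symm
    · exfalso
      have e' : t * d * t⁻¹ = z * d := e
      have hztc : t * z * t⁻¹ = z := by rw [← P.zt, mul_inv_cancel_right]
      have e2 : t * (t * d * t⁻¹) * t⁻¹ = d := by
        rw [e', ← conj_mul, hztc, e', ← mul_assoc, hc.z_sq, one_mul]
      refine hc.ne_one ?_
      have e3 : (t * t * t) * d * (t * t * t)⁻¹ = z * d := by
        calc (t * t * t) * d * (t * t * t)⁻¹ = t * (t * (t * d * t⁻¹) * t⁻¹) * t⁻¹ := by group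
          _ = z * d := by rw [e2, e']
      rw [P.tpow, one_mul, inv_one, mul_one] at e3
      exact mul_eq_right.1 e3.symm
  have hdu : d * u = u * d := by
    have h1 := M.pt_spec U i
    rw [hμi] at h1
    rcases h1 with e | e
    · exact (mul_inv_eq_iff_eq_mul.1 e).symm
    · exfalso
      have e' : u * d * u⁻¹ = z * d := e
      have hti : t * d * t⁻¹ = d := by rw [← hdt, mul_inv_cancel_right]
      have hztc : t * z * t⁻¹ = z := by rw [← P.zt, mul_inv_cancel_right]
      have ea : t * u * t⁻¹ * d * (t * u * t⁻¹)⁻¹ = z * d := by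
        calc t * u * t⁻¹ * d * (t * u * t⁻¹)⁻¹
            = t * (u * (t⁻¹ * (t * d * t⁻¹) * t) * u⁻¹) * t⁻¹ := by rw [hti]; group
          _ = t * (u * d * u⁻¹) * t⁻¹ := by group
          _ = z * d := by rw [e', ← conj_mul, hztc, hti]
      set a := t * u * t⁻¹ with ha
      have hati : t * a * t⁻¹ = u * a := P.trip
      have eb : u * a * d * (u * a)⁻¹ = z * d := by
        calc u * a * d * (u * a)⁻¹ = t * a * t⁻¹ * (t * d * t⁻¹) * (t * a * t⁻¹)⁻¹ := by rw [hati, hti]
          _ = t * (a * d * a⁻¹) * t⁻¹ := by group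
          _ = z * d := by rw [ea, ← conj_mul, hztc, hti]
      have eb' : u * a * d * (u * a)⁻¹ = d := by
        calc u * a * d * (u * a)⁻¹ = u * (a * d * a⁻¹) * u⁻¹ := by group
          _ = d := by rw [ea, ← conj_mul, e', ← P.zu, mul_inv_cancel_right, ← mul_assoc, hc.z_sq, one_mul]
      exact hc.ne_one (mul_eq_right.1 (eb.symm.trans eb'))
  have hsC : s ∈ C := mem_cent_iff.2 P.sz
  set j := s * d * s with hj
  have hji : j = s * d * s⁻¹ := by rw [inv_eq_of_mul_eq_one_right P.s2]
  have hjQ : j ∈ Q := hji ▸ hc.norm s hsC d hdQ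
  have hds : d * j * (d * j) = z := by
    have hj2 : j * j = 1 := by rw [hji, conj_mul, hd2, mul_one, mul_inv_cancel]
    have hne : d * j ≠ j * d := by
      intro e
      have hws : (W : G) * d * (W : G)⁻¹ = z * (s * d * s⁻¹) * z⁻¹ := by
        show z * s * d * (z * s)⁻¹ = _
        group
      have h1 := M.pt_spec W i
      rw [hws, ← hji, ← hc.zq hjQ, mul_inv_cancel_right] at h1
      refine M.anti i (M.pt W i) (Ne.symm hωi) ?_
      rcases h1 with e1 | e1
      · rw [← e1, ← hd]; exact e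
      · have e2 : M.a (M.pt W i) = z * j := by rw [e1, ← mul_assoc, hc.z_sq, one_mul]
        rw [e2, ← hd, ← mul_assoc, hc.zq hdQ, mul_assoc, e, ← mul_assoc]
    have hanti : d * j = z * (j * d) := (hc.comm d hdQ j hjQ).resolve_left hne
    calc d * j * (d * j) = z * (j * d) * (d * j) := by nth_rewrite 1 [hanti]; rfl
      _ = z * (j * (d * d) * j) := by group
      _ = z := by rw [hd2, mul_one, hj2, mul_one]
  -- the commutator with the other generators of `R`
  set r := v * u * v⁻¹ with hr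
  set a := t * u * t⁻¹ with ha
  have hrR : r ∈ R := P.rR
  have haR : a ∈ R := P.aR
  have hza : z * a = a * z := P.za
  have hzua0 : z * (u * a) = u * a * z := P.zua
  have htrip : t * a * t⁻¹ = u * a := P.trip
  have hzu := P.zu
  have hr2 : r * r = 1 := P.sq r hrR
  have hrr : z * r * z = r * a := by
    have e := P.zr
    rw [hzi] at e
    rw [e, ← htr, ← mul_assoc, hr2, one_mul]
  have hzd2 : z * d * (z * d) = 1 := by
    rw [mul_assoc, ← mul_assoc d z d, hdz, mul_assoc z d d, hd2, mul_one, hc.z_sq]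
  have hzdz : (z * d) * z = z * (z * d) := by rw [mul_assoc, hdz]
  have hzdt : (z * d) * t = t * (z * d) := ((show Commute z t from P.zt).mul_left hdt).eq
  have hzdu : (z * d) * u = u * (z * d) := ((show Commute z u from P.zu).mul_left hdu).eq
  have hzdcomm : ∀ e : G, e * z = z * e → e * (s * e * s) * (e * (s * e * s)) = z →
      z * e * (s * (z * e) * s) * (z * e * (s * (z * e) * s)) = z := by
    intro e hez he
    have hzc : ∀ x : G, x * z = z * x → z * x * (z * x) = x * x := fun x hx => by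
      rw [mul_assoc, ← mul_assoc x z x, hx, mul_assoc z x x, ← mul_assoc, hc.z_sq, one_mul]
    have e1 : z * e * (s * (z * e) * s) = e * (s * e * s) := by
      calc z * e * (s * (z * e) * s) = z * (e * ((s * z) * (e * s))) := by group
        _ = z * (e * z) * (s * e * s) := by rw [P.sz]; group
        _ = z * z * e * (s * e * s) := by rw [hez]; group
        _ = e * (s * e * s) := by rw [hc.z_sq, one_mul]
    rw [e1, he]
  -- choose between `d` and `z * d`
  have hcomm4 := comm_four h (A := R) P.card P.comm P.sq P.uR P.u1 haR P.a1 P.au (e := d) hd2 hdu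
    (by
      show Commute d (t * u * t⁻¹)
      exact ((show Commute d t from hdt).mul_right hdu).mul_right (show Commute d t from hdt).inv_right) hrR
  have hfix1 : ∀ e : G, e * e = 1 → e * z = z * e → e * t = t * e → e * u = u * e → e * r = r * e → e = 1 := by
    intro e he hez het heu her
    refine P.tfix e (self_cent h P.card P.comm P.sq fun x hx => ?_) het.symm
    have hea : Commute e a := ((show Commute e t from het).mul_right heu).mul_right (show Commute e t from het).inv_right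
    have hetr : Commute e (t * r * t⁻¹) :=
      ((show Commute e t from het).mul_right her).mul_right (show Commute e t from het).inv_right
    have hψtr : z * (t * r * t⁻¹) * z⁻¹ = t * r * t⁻¹ * (u * a) := by
      calc z * (t * r * t⁻¹) * z⁻¹ = (z * t) * r * (z * t)⁻¹ := by group
        _ = t * (z * r * z) * t⁻¹ := by rw [P.zt, mul_inv_rev, hzi]; group
        _ = t * r * t⁻¹ * (t * a * t⁻¹) := by rw [hrr]; group
        _ = _ := by rw [htrip]
    have hW : ∀ y ∈ R, z * y = y * z → Commute e y := by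
      intro y hy hzy
      rcases P.fixed_four hc.z_sq hy hzy with rfl | rfl | rfl | rfl
      · exact Commute.one_right e
      · exact heu
      · exact hea
      · exact (show Commute e u from heu).mul_right hea
    have hxi : ∀ k ∈ R, Commute e k → 
        x * (z * x * z⁻¹) = k * (z * k * z⁻¹) → Commute e x := by
      intro k hk hek heq
      have hfixk : z * (x * k) * z⁻¹ = x * k := by
        rw [← conj_mul]
        have h1 : z * x * z⁻¹ = x * (k * (z * k * z⁻¹)) := by rw [← heq, ← mul_assoc, P.sq x hx, one_mul]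
        rw [h1, mul_assoc x, mul_assoc k, P.sq _ (P.conjR P.zR hk), mul_one]
      have := hW (x * k) (R.mul_mem hx hk) (mul_inv_eq_iff_eq_mul.1 hfixk)
      have h2 := this.mul_right hek
      rwa [mul_assoc, P.sq k hk, mul_one] at h2
    have hzrr : z * r * z⁻¹ = r * a := by rw [hzi]; exact hrr
    have hB : t * r * t⁻¹ ∈ R := P.conjR P.tR hrR
    have hfixx : z * (x * (z * x * z⁻¹)) = x * (z * x * z⁻¹) * z := by
      refine mul_inv_eq_iff_eq_mul.1 ?_
      rw [← conj_mul, show z * (z * x * z⁻¹) * z⁻¹ = (z * z) * x * (z * z)⁻¹ by group, hc.z_sq, inv_one,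
        one_mul, mul_one, P.comm _ (P.conjR P.zR hx) _ hx]
    rcases P.fixed_four hc.z_sq (R.mul_mem hx (P.conjR P.zR hx)) hfixx with e1 | e1 | e1 | e1
    · exact (hxi 1 R.one_mem (Commute.one_right e) (by rw [e1]; simp)).eq
    · refine (hxi (r * (t * r * t⁻¹)) (R.mul_mem hrR hB) ((show Commute e r from her).mul_right hetr) ?_).eq
      rw [e1, show z * (r * (t * r * t⁻¹)) * z⁻¹ = z * r * z⁻¹ * (z * (t * r * t⁻¹) * z⁻¹) from conj_mul.symm,
        hzrr, hψtr]
      calc u = r * r * (t * r * t⁻¹ * (t * r * t⁻¹)) * (a * a) * u := by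
            rw [hr2, P.sq _ hB, P.sq a haR]; simp
        _ = r * (t * r * t⁻¹) * (r * a * (t * r * t⁻¹ * (u * a))) := by
            have c1 := P.comm _ hB _ hrR
            have c2 := P.comm _ hB a haR
            have c3 := P.comm a haR u P.uR
            calc r * r * (t * r * t⁻¹ * (t * r * t⁻¹)) * (a * a) * u
                = r * (r * (t * r * t⁻¹)) * (t * r * t⁻¹) * a * (a * u) := by group
              _ = r * (t * r * t⁻¹) * r * ((t * r * t⁻¹) * a) * (a * u) := by rw [show r * (r * (t * r * t⁻¹)) = r * (t * r * t⁻¹ * r) by rw [c1]]; group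
              _ = r * (t * r * t⁻¹) * (r * a * (t * r * t⁻¹ * (u * a))) := by rw [c2, c3]; group
    · exact (hxi r hrR her 
        (by rw [e1, hzrr, ← mul_assoc, hr2, one_mul])).eq
    · exact (hxi _ hB hetr 
        (by rw [e1, hψtr, ← mul_assoc (t * r * t⁻¹) (t * r * t⁻¹), P.sq _ hB, one_mul])).eq
  rcases hcomm4 with e | e | e | e
  · exfalso
    refine (M.mem i).2.2.1 (hfix1 d hd2 hdz hdt hdu ?_)
    calc d * r = d * r * (d * d) * (r * r) := by rw [hd2, hr2, mul_one, mul_one]
      _ = d * r * d * (d * r) * r := by group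
      _ = (d * r * d * r) * (r * d * r) * r := by
          rw [show d * r * d * r * (r * d * r) * r = d * r * d * (r * r) * (d * r) * r by group, hr2, mul_one]
      _ = r * d := by rw [e, one_mul, mul_assoc, hr2, mul_one]
  · exact ⟨d, { P with trace := htr, d2 := hd2, dz := hdz, dt := hdt, du := hdu, ds := hds, dr := e }⟩
  · exfalso
    have e1 : z * d * r = r * (z * d) := by
      have hdrd : d * r * d = a * r := by
        calc d * r * d = d * r * d * r * r := by rw [mul_assoc (d * r * d) r r, hr2, mul_one]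
          _ = a * r := by rw [e]
      calc z * d * r = z * (d * r * d) * (z * z) * d := by
            calc z * d * r = z * d * r * (d * d) := by rw [hd2, mul_one]
              _ = z * (d * r * d) * d := by group
              _ = z * (d * r * d) * (z * z) * d := by rw [hc.z_sq, mul_one]
        _ = (z * a * z⁻¹) * (z * r * z) * (z * d) := by rw [hdrd]; group
        _ = r * (z * d) := by
          rw [hza, mul_inv_cancel_right, hrr, P.comm r hrR a haR, ← mul_assoc a a r, P.sq a haR, one_mul]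
    have h1 := hfix1 (z * d) hzd2 hzdz hzdt hzdu e1
    exact (M.mem i).2.2.2 ((eq_inv_of_mul_eq_one_right h1).trans hzi)
  · refine ⟨z * d, { P with trace := htr, d2 := hzd2, dz := hzdz, dt := hzdt, du := hzdu
                            ds := hzdcomm d hdz hds, dr := ?_ }⟩
    have hzua : z * (u * a) * z⁻¹ = u * a := by rw [hzua0, mul_inv_cancel_right]
    calc z * d * r * (z * d) * r = z * d * r * (d * z) * r := by rw [hdz]
      _ = z * (d * r * d * r) * r * z * r := by
          rw [show z * (d * r * d * r) * r * z * r = z * (d * r * d) * (r * r) * z * r by group, hr2, mul_one]; group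
      _ = (z * (u * a) * z⁻¹) * (z * r * z) * r := by rw [e]; group
      _ = u := by
          rw [hzua, hrr, P.comm r hrR a haR, mul_assoc, mul_assoc a r r, hr2, mul_one, mul_assoc,
            P.sq a haR, mul_one]

theorem conj_iterate {V : Vec → G} {g : G} {f : Vec → Vec} (hg : ∀ p, g * V p * g⁻¹ = V (f p)) :
    ∀ (n : ℕ) p, g ^ n * V p * (g ^ n)⁻¹ = V (f^[n] p)
  | 0, p => by simp
  | n + 1, p => by
      rw [Function.iterate_succ_apply', ← hg, ← conj_iterate hg n p, pow_succ']
      group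

namespace Data

variable {d : G} (D : Data z R v t s u d)
include D

theorem tr_tr : t * (t * (v * u * v⁻¹) * t⁻¹) * t⁻¹ = v * u * v⁻¹ * (t * (v * u * v⁻¹) * t⁻¹) := by
  have hvt : ∀ x : G, t * (v * x * v⁻¹) * t⁻¹ = v * (t * x * t⁻¹) * v⁻¹ := fun x => by
    rw [show t * (v * x * v⁻¹) * t⁻¹ = (t * v) * x * (t * v)⁻¹ by group, ← D.vt]; group
  rw [hvt, hvt, D.trip, conj_mul]

theorem images (hz2 : z * z = 1) :
    let B := t * (v * u * v⁻¹) * t⁻¹
    let V := val u (t * u * t⁻¹) (v * u * v⁻¹) B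
    ∀ p, z * V p * z⁻¹ = V (lin mZ p) ∧ d * V p * d⁻¹ = V (lin mD p) ∧ v * V p * v⁻¹ = V (lin mV p) := by
  intro B V p
  have hzi : z⁻¹ = z := inv_eq_of_mul_eq_one_right hz2
  have hdi : d⁻¹ = d := inv_eq_of_mul_eq_one_right D.d2
  have hu := D.uR
  have ha := D.aR
  have hr := D.rR
  have hB : B ∈ R := D.conjR D.tR hr
  have hr2 := D.sq _ hr
  have hrz : z * (v * u * v⁻¹) * z⁻¹ = v * u * v⁻¹ * (t * u * t⁻¹) := by
    rw [D.zr, ← D.trace, ← mul_assoc, hr2, one_mul]
  have hBt : ∀ (g x y : G), Commute g t → g * x * g⁻¹ = y → g * (t * x * t⁻¹) * g⁻¹ = t * y * t⁻¹ := by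
    intro g x y hg e
    rw [← e, show g * (t * x * t⁻¹) * g⁻¹ = (g * t) * x * (g * t)⁻¹ by group, hg.eq]
    group
  have hdr : d * (v * u * v⁻¹) * d⁻¹ = v * u * v⁻¹ * u := by
    rw [hdi, D.comm _ hr u hu]
    calc d * (v * u * v⁻¹) * d = d * (v * u * v⁻¹) * d * ((v * u * v⁻¹) * (v * u * v⁻¹)) := by rw [hr2, mul_one]
      _ = u * (v * u * v⁻¹) := by rw [← mul_assoc, D.dr]
  have hdu : d * u * d⁻¹ = u := by rw [D.du, mul_inv_cancel_right]
  have hvr : v * (v * u * v⁻¹) * v⁻¹ = u * B := by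
    have h1 : v * (v * u * v⁻¹) * v⁻¹ * u = B := by
      calc v * (v * u * v⁻¹) * v⁻¹ * u = v * (v * u * v⁻¹) * v⁻¹ * (v * (v⁻¹ * u * v) * v⁻¹) := by group
        _ = v * (t * u * t⁻¹) * v⁻¹ := by rw [conj_mul, D.trace]
        _ = B := hBt v u _ D.vt rfl
    rw [D.comm u hu B hB, ← h1, mul_assoc _ u u, D.sq u hu, mul_one]
  have hV : ∀ g : G, ∀ M : Fin 4 → Vec, g * u * g⁻¹ = V (M 0) → g * (t * u * t⁻¹) * g⁻¹ = V (M 1) →
      g * (v * u * v⁻¹) * g⁻¹ = V (M 2) → g * B * g⁻¹ = V (M 3) → g * V p * g⁻¹ = V (lin M p) :=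
    fun g M a b c e => val_conj D.comm D.sq hu ha hr hB a b c e p
  refine ⟨hV z mZ ?_ ?_ ?_ ?_, hV d mD ?_ ?_ ?_ ?_, hV v mV ?_ ?_ ?_ ?_⟩
  all_goals simp only [V, val, pw, mZ, mD, mV, Matrix.cons_val_zero, Matrix.cons_val_one, Matrix.cons_val_two,
    Matrix.cons_val_three, Matrix.cons_val, Matrix.head_cons, Matrix.tail_cons, one_ne_zero, if_true, if_false,
    one_mul, mul_one]
  · rw [D.zu, mul_inv_cancel_right]
  · rw [D.za, mul_inv_cancel_right]
  · rw [hrz, D.comm _ hr _ ha]
  · rw [hBt z _ _ D.zt hrz, ← conj_mul, D.trip, D.comm B hB _ (R.mul_mem hu ha)]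
  · exact hdu
  · exact hBt d u u D.dt hdu
  · rw [hdr, D.comm _ hr u hu]
  · rw [hBt d _ _ D.dt hdr, ← conj_mul, D.comm B hB _ ha]
  · exact hBt v u _ D.vt rfl
  · rw [hvr]
  · rw [hBt v _ _ D.vt hvr, ← conj_mul, D.tr_tr]

/-- A word acting trivially on `R` and commuting with `t` is trivial. -/
theorem eq_one_of_act (h : Invol.J3Type.Setting z Q) {g : G} {f : Vec → Vec} (hgt : g * t = t * g)
    (hf : ∀ p, f p = p)
    (hg : ∀ p, g * val u (t * u * t⁻¹) (v * u * v⁻¹) (t * (v * u * v⁻¹) * t⁻¹) p * g⁻¹ =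
      val u (t * u * t⁻¹) (v * u * v⁻¹) (t * (v * u * v⁻¹) * t⁻¹) (f p)) : g = 1 := by
  classical
  refine D.tfix g (self_cent h D.card D.comm D.sq fun x hx => ?_) hgt.symm
  have hB : t * (v * u * v⁻¹) * t⁻¹ ∈ R := D.conjR D.tR D.rR
  have hzi : z⁻¹ = z := inv_eq_of_mul_eq_one_right h.toCore.z_sq
  set V := val u (t * u * t⁻¹) (v * u * v⁻¹) (t * (v * u * v⁻¹) * t⁻¹) with hV
  have hmem : ∀ p, V p ∈ R := fun p => val_mem D.uR D.aR D.rR hB p
  have hadd : ∀ p q, V (p + q) = V p * V q := val_add D.comm D.sq D.uR D.aR D.rR hB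
  have hzimg : ∀ p, z * V p * z⁻¹ = V (lin mZ p) := fun p => (D.images h.toCore.z_sq p).1
  have hinj : Function.Injective (fun p => (⟨V p, hmem p⟩ : R)) := by
    intro p q e
    have e' : V p = V q := congrArg Subtype.val e
    have h0 : V (p + q) = 1 := by
      rw [hadd, e', D.sq _ (hmem q)]
    have key : ∀ y : Vec, V y = 1 → y = 0 := by
      intro y hy
      have h1 : V (lin mZ y) = 1 := by rw [← hzimg, hy, mul_one, mul_inv_cancel]
      have h2 : V (y + lin mZ y) = 1 := by rw [hadd, hy, h1, one_mul]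
      have hcase : ∀ y : Vec, ((y + lin mZ y) = 0 ∧ y 2 = 0 ∧ y 3 = 0) ∨
          (y + lin mZ y) = ![1, 0, 0, 0] ∨ (y + lin mZ y) = ![0, 1, 0, 0] ∨ (y + lin mZ y) = ![1, 1, 0, 0] := by
        decide +kernel
      have n1 : V ![1, 0, 0, 0] ≠ 1 := by simpa [V, val, pw] using D.u1
      have n2 : V ![0, 1, 0, 0] ≠ 1 := by simpa [V, val, pw] using D.a1
      have n3 : V ![1, 1, 0, 0] ≠ 1 := by simpa [V, val, pw] using D.ua1
      rcases hcase y with ⟨-, e2, e3⟩ | e1 | e1 | e1
      · have hy' : ∀ y : Vec, y 2 = 0 → y 3 = 0 →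
            y = 0 ∨ y = ![1, 0, 0, 0] ∨ y = ![0, 1, 0, 0] ∨ y = ![1, 1, 0, 0] := by decide +kernel
        rcases hy' y e2 e3 with r0 | r0 | r0 | r0
        · exact r0
        · exact absurd (r0 ▸ hy) n1
        · exact absurd (r0 ▸ hy) n2
        · exact absurd (r0 ▸ hy) n3
      · exact absurd (e1 ▸ h2) n1
      · exact absurd (e1 ▸ h2) n2
      · exact absurd (e1 ▸ h2) n3
    exact (show ∀ p q : Vec, p + q = 0 → p = q by decide +kernel) _ _ (key _ h0)
  have hbij := (Nat.bijective_iff_injective_and_card _).2 ⟨hinj, by rw [D.card, Nat.card_eq_fintype_card]; rfl⟩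
  obtain ⟨p, hp⟩ := hbij.2 ⟨x, hx⟩
  obtain rfl : V p = x := congrArg Subtype.val hp
  have := hg p
  rw [hf p] at this
  exact mul_inv_eq_iff_eq_mul.1 this

theorem words (h : Invol.J3Type.Setting z Q) :
    (d * (v * v)) ^ 3 = 1 ∧ (d * v) ^ 5 = 1 ∧ (z * d * v) ^ 3 = 1 := by
  set V := val u (t * u * t⁻¹) (v * u * v⁻¹) (t * (v * u * v⁻¹) * t⁻¹) with hV
  have hi : ∀ p, z * V p * z⁻¹ = V (lin mZ p) ∧ d * V p * d⁻¹ = V (lin mD p) ∧ v * V p * v⁻¹ = V (lin mV p) :=
    D.images h.toCore.z_sq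
  have hd : Commute d t := D.dt
  have hv : Commute v t := D.vt
  have hz : Commute z t := D.zt
  have h1 : ∀ p, d * v * V p * (d * v)⁻¹ = V (lin mD (lin mV p)) := fun p => by
    rw [← (hi _).2.1, ← (hi p).2.2]; group
  have h2 : ∀ p, d * (v * v) * V p * (d * (v * v))⁻¹ = V (lin mD (lin mV (lin mV p))) := fun p => by
    rw [← (hi _).2.1, ← (hi _).2.2, ← (hi p).2.2]; group
  have h3 : ∀ p, z * d * v * V p * (z * d * v)⁻¹ = V (lin mZ (lin mD (lin mV p))) := fun p => by
    rw [← (hi _).1, ← (hi _).2.1, ← (hi p).2.2]; group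
  exact ⟨D.eq_one_of_act h ((hd.mul_left (hv.mul_left hv)).pow_left 3).eq lin_dvv (fun p => conj_iterate h2 3 p),
    D.eq_one_of_act h ((hd.mul_left hv).pow_left 5).eq lin_dv (fun p => conj_iterate h1 5 p),
    D.eq_one_of_act h (((hz.mul_left hd).mul_left hv).pow_left 3).eq lin_zdv (fun p => conj_iterate h3 3 p)⟩

end Data

end Cfsg.Agent.Fus.J3Uniq
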