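import Cfsg.Agent.Lib.Fus.J3Uniq.Model

/-!
# A group of the order of `J₃` with six such generators is `J₃`
-/

set_option autoImplicit false
set_option linter.unusedSectionVars false

open Cfsg.Agent.Spor.Cos

namespace Cfsg.Agent.Fus.J3Uniq

universe u

variable {G : Type u} [Group G] [Finite G]

theorem ev_prod {A B : Type*} [Group A] [Group B] (f : ℕ → A) (g : ℕ → B) (w : List ℕ) :
    ev (fun i => (f i, g i)) w = (ev f w, ev g w) := by
  refine Prod.ext ?_ ?_
  · exact ev_map (MonoidHom.fst A B) _ w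
  · exact ev_map (MonoidHom.snd A B) _ w

theorem iso_of_gens {g : ℕ → G} (hG : Nat.card G = 50232960) (hinv : ∀ s, g s * g s = 1)
    (hh : ∀ w ∈ hWords, ev g w = 1) (hd : ∀ w ∈ dWords, ev g w = 1)
    (hbig : orderOf (g 0 * g 1) = 5) : Nonempty (J3.P ≃* G) := by
  haveI := J3.finite
  haveI := J3.isSimple
  have hP : Nat.card J3.P = 50232960 := J3.card_eq
  let p : ℕ → G × J3.P := fun i => (g i, xg i)
  have hpw : ∀ {L : List (List ℕ)}, (∀ w ∈ L, ev g w = 1) → (∀ w ∈ L, ev xg w = 1) →
      ∀ w ∈ L, ev p w = 1 := fun h1 h2 w hw => by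
    rw [ev_prod, h1 w hw, h2 w hw]; rfl
  obtain ⟨-, hS⟩ := card_le (g := p) (fun s => Prod.ext (hinv s) (xg_sq s)) (hpw hh xg_h) (hpw hd xg_d)
  set S := val p (singles [0, 1, 2, 3, 4, 5]) with hSdef
  set f : S →* G := (MonoidHom.fst G J3.P).comp S.subtype with hf
  set q : S →* J3.P := (MonoidHom.snd G J3.P).comp S.subtype with hq
  have hmem : ∀ i < 6, p i ∈ S := fun i hi => mem_single (by interval_cases i <;> decide)
  have hqs : Function.Surjective q := by
    rw [← MonoidHom.range_eq_top, ← top_le_iff, ← xg_gen, Subgroup.closure_le]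
    rintro _ ⟨i, hi, rfl⟩
    exact ⟨⟨p i, hmem i hi⟩, rfl⟩
  have hqc : Nat.card S = Nat.card q.ker * Nat.card J3.P := by
    rw [Subgroup.card_eq_card_quotient_mul_card_subgroup q.ker, mul_comm,
      Nat.card_congr (QuotientGroup.quotientKerEquivOfSurjective q hqs).toEquiv]
  have hk : Nat.card q.ker ≤ 3 := by
    rw [hqc, hP] at hS
    omega
  have hfk : f.ker = ⊥ := by
    have hn : (f.ker.map q).Normal := Subgroup.Normal.map inferInstance q hqs
    rcases hn.eq_bot_or_eq_top with e | e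
    · rw [eq_bot_iff]
      intro x hx
      have h1 : q x = 1 := by
        have : q x ∈ f.ker.map q := ⟨x, hx, rfl⟩
        rwa [e, Subgroup.mem_bot] at this
      exact Subtype.ext (Prod.ext hx h1)
    · exfalso
      have hr : (Nat.card f.range) ∣ Nat.card q.ker := by
        have h1 : f.range = q.ker.map f := by
          refine le_antisymm ?_ (MonoidHom.range_eq_map f ▸ Subgroup.map_mono le_top)
          rintro _ ⟨x, rfl⟩
          obtain ⟨y, hy, hxy⟩ : q x ∈ f.ker.map q := e ▸ Subgroup.mem_top _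
          refine ⟨x * y⁻¹, ?_, ?_⟩
          · show q (x * y⁻¹) = 1
            rw [map_mul, map_inv, hxy, mul_inv_cancel]
          · rw [map_mul, map_inv, (hy : f y = 1), inv_one, mul_one]
        rw [h1]
        exact Subgroup.card_map_dvd q.ker f
      have h5 : (5 : ℕ) ∣ Nat.card f.range :=
        hbig ▸ Subgroup.orderOf_dvd_natCard _ (f.range.mul_mem ⟨⟨p 0, hmem 0 (by norm_num)⟩, rfl⟩
          ⟨⟨p 1, hmem 1 (by norm_num)⟩, rfl⟩)
      have := Nat.le_of_dvd Nat.card_pos (h5.trans hr)
      omega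
  have hfi : Function.Injective f := (MonoidHom.ker_eq_bot_iff f).1 hfk
  have hle : Nat.card S ≤ Nat.card G := Nat.card_le_card_of_injective f hfi
  have hqk : Nat.card q.ker = 1 := by
    have := Nat.card_pos (α := q.ker)
    rw [hqc, hG, hP] at hle
    omega
  have hqi : Function.Injective q := (MonoidHom.ker_eq_bot_iff q).1 (Subgroup.eq_bot_of_card_eq _ hqk)
  have hfb : Function.Bijective f := (Nat.bijective_iff_injective_and_card f).2
    ⟨hfi, by rw [hqc, hqk, one_mul, hP, hG]⟩
  exact ⟨(MulEquiv.ofBijective q ⟨hqi, hqs⟩).symm.trans (MulEquiv.ofBijective f hfb)⟩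

end Cfsg.Agent.Fus.J3Uniq
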