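import Cfsg.Agent.Lib.Fus.J3Uniq.Gens
import Cfsg.Agent.Lib.Fus.J3Uniq.Iso
import Cfsg.Agent.Lib.Invol.J3Type.Main
import Cfsg.Agent.Lib.Invol.J3Type.LTwoSixteen.RankOne

/-!
# Uniqueness of the third Janko group
-/

set_option autoImplicit false
set_option linter.unusedSectionVars false
set_option linter.style.haveILetI false

namespace Cfsg.Agent.Fus.J3Uniq

open Cfsg Cfsg.Agent.Invol.HJ Cfsg.Agent.Invol.J3Type Cfsg.Agent.Invol.J3Type.LTwoSixteen

open Cfsg.Agent.Spor.Cos (ev)

universe u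

variable {G : Type u} [Group G] [Finite G] {z v t s u d : G} {Q R : Subgroup G}

/-- The six generators. -/
def gens (z v t s u d : G) : ℕ → G
  | 0 => z
  | 1 => z * v
  | 2 => s
  | 3 => s * t
  | 4 => u
  | 5 => d
  | _ => 1

theorem sq_comm {a b : G} (ha : a * a = 1) (hb : b * b = 1) (h : a * b = b * a) : a * b * (a * b) = 1 := by
  calc a * b * (a * b) = a * (b * a) * b := by group
    _ = a * a * (b * b) := by rw [← h]; group
    _ = 1 := by rw [ha, hb, one_mul]

theorem gens_sq (D : Data z R v t s u d) (hc : Core z Q) : ∀ i, gens z v t s u d i * gens z v t s u d i = 1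
  | 0 => hc.z_sq
  | 1 => by
    show z * v * (z * v) = 1
    calc z * v * (z * v) = (z * v * z⁻¹) * (z * z) * v := by group
      _ = 1 := by rw [D.zv, hc.z_sq, mul_one, inv_mul_cancel]
  | 2 => D.s2
  | 3 => by
    show s * t * (s * t) = 1
    calc s * t * (s * t) = (s * t * s⁻¹) * (s * s) * t := by group
      _ = 1 := by rw [D.st, D.s2, mul_one, inv_mul_cancel]
  | 4 => D.sq u D.uR
  | 5 => D.d2
  | _ + 6 => one_mul 1

theorem gens_v (hc : Core z Q) : gens z v t s u d 0 * gens z v t s u d 1 = v := by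
  show z * (z * v) = v
  rw [← mul_assoc, hc.z_sq, one_mul]

theorem exists_gens [IsSimpleGroup G] (h : Invol.J3Type.Setting z Q) : ∃ g : ℕ → G, (∀ i, g i * g i = 1) ∧
    (∀ w ∈ hWords, Spor.Cos.ev g w = 1) ∧ (∀ w ∈ dWords, Spor.Cos.ev g w = 1) ∧ orderOf (g 0 * g 1) = 5 := by
  have hc := h.toCore
  obtain ⟨R, v0, t, s, F⟩ := exists_frame h
  obtain ⟨u, huR, hu1, hzu, htrip, hbr⟩ := F.relation_fix hc
  obtain ⟨v, P, htr⟩ := Point.exists_oriented
    (P := ({ F with uR := huR, u1 := hu1, zu := hzu, trip := htrip, braid := hbr } : Point z R v0 t s u)) hc.z_sq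
  obtain ⟨d, D⟩ := P.exists_data h htr
  set g := gens z v t s u d with hg
  have gsq : ∀ i, g i * g i = 1 := gens_sq D hc
  have gv : g 0 * g 1 = v := gens_v hc
  have gt' : g 2 * g 3 = t := by
    show s * (s * t) = t
    rw [← mul_assoc, D.s2, one_mul]
  have gi : ∀ i, (g i)⁻¹ = g i := fun i => inv_eq_of_mul_eq_one_right (gsq i)
  have gv' : g 1 * g 0 = v⁻¹ := by rw [← gv, mul_inv_rev, gi, gi]
  have gt2 : g 3 * g 2 = t⁻¹ := by rw [← gt', mul_inv_rev, gi, gi]
  have hri : ∀ {x : G}, x ∈ R → ∀ {p : G}, p ∈ Subgroup.normalizer (R : Set G) →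
      (u * (p * x * p⁻¹)) * (u * (p * x * p⁻¹)) = 1 := fun hx _ hp =>
    D.sq _ (R.mul_mem D.uR (D.conjR hp hx))
  have hvN := D.vR
  have htN := D.tR
  have hvt : Commute v t := D.vt
  have hzt : Commute z t := D.zt
  have hzs : Commute z s := (show Commute s z from D.sz).symm
  have hsv : Commute s v := D.sv
  have hw2 : z * s * (z * s) = 1 := sq_comm hc.z_sq D.s2 hzs.eq
  obtain ⟨k1, k2, k3⟩ := D.words h
  refine ⟨g, gsq, ?_, ?_, by rw [gv, D.v5]⟩
  · intro w hw
    simp only [hWords, List.mem_cons, List.not_mem_nil, or_false] at hw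
    rcases hw with rfl | rfl | rfl | rfl | rfl | rfl | rfl | rfl | rfl | rfl | rfl | rfl | rfl | rfl | rfl | rfl | rfl <;>
      simp only [Spor.Cos.ev, mul_one]
    · calc _ = (g 0 * g 1) ^ 5 := by simp only [pow_succ, pow_zero, one_mul, mul_assoc]
        _ = 1 := by rw [gv, D.vpow]
    · calc _ = (g 2 * g 3) * (g 2 * g 3) * (g 2 * g 3) := by simp only [mul_assoc]
        _ = 1 := by rw [gt', D.tpow]
    · calc _ = z * s * (z * s) := by simp only [mul_assoc]; rfl
        _ = 1 := hw2
    · calc _ = g 0 * g 3 * (g 0 * g 3) := by simp only [mul_assoc]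
        _ = 1 := sq_comm hc.z_sq (gsq 3) (hzs.mul_right hzt).eq
    · calc _ = g 1 * g 2 * (g 1 * g 2) := by simp only [mul_assoc]
        _ = 1 := sq_comm (gsq 1) D.s2 ((hzs.mul_left hsv.symm)).eq
    · calc _ = g 1 * g 3 * (g 1 * g 3) := by simp only [mul_assoc]
        _ = 1 := sq_comm (gsq 1) (gsq 3) ((hzs.mul_right hzt).mul_left (hsv.symm.mul_right hvt)).eq
    · calc _ = z * u * (z * u) := by simp only [mul_assoc]; rfl
        _ = 1 := sq_comm hc.z_sq (D.sq u D.uR) D.zu
    · calc _ = g 2 * g 3 * (g 2 * g 3) * u * (g 3 * g 2 * (g 3 * g 2)) * ((g 2 * g 3) * u * (g 3 * g 2)) * u := by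
            simp only [mul_assoc]; rfl
        _ = t * (t * u * t⁻¹) * t⁻¹ * (t * u * t⁻¹) * u := by rw [gt', gt2]; group
        _ = 1 := by
          rw [D.trip, mul_assoc u, D.sq _ D.aR, mul_one, D.sq u D.uR]
    · calc _ = (g 0 * g 1) * u * (g 1 * g 0) * ((g 1 * g 0) * u * (g 0 * g 1)) * ((g 2 * g 3) * u * (g 3 * g 2)) := by
            simp only [mul_assoc]; rfl
        _ = 1 := by rw [gv, gv', gt', gt2, D.trace, D.sq _ D.aR]
    · calc _ = u * ((g 0 * g 1) * u * (g 1 * g 0)) * (u * ((g 0 * g 1) * u * (g 1 * g 0))) := by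
            simp only [mul_assoc]; rfl
        _ = 1 := by rw [gv, gv']; exact hri D.uR hvN
    · calc _ = u * ((g 0 * g 1) * (g 2 * g 3) * u * ((g 3 * g 2) * (g 1 * g 0))) *
            (u * ((g 0 * g 1) * (g 2 * g 3) * u * ((g 3 * g 2) * (g 1 * g 0)))) := by simp only [mul_assoc]; rfl
        _ = 1 := by rw [gv, gv', gt', gt2, ← mul_inv_rev]; exact hri D.uR (mul_mem hvN htN)
    · calc _ = u * ((g 0 * g 1) * (g 2 * g 3) * (g 2 * g 3) * u * ((g 3 * g 2) * ((g 3 * g 2) * (g 1 * g 0)))) *
            (u * ((g 0 * g 1) * (g 2 * g 3) * (g 2 * g 3) * u * ((g 3 * g 2) * ((g 3 * g 2) * (g 1 * g 0))))) := by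
            simp only [mul_assoc]; rfl
        _ = 1 := by
          rw [gv, gv', gt', gt2, ← mul_inv_rev, ← mul_inv_rev]
          exact hri D.uR (mul_mem (mul_mem hvN htN) htN)
    · calc _ = u * ((g 0 * g 1) * (g 0 * g 1) * u * ((g 1 * g 0) * (g 1 * g 0))) *
            (u * ((g 0 * g 1) * (g 0 * g 1) * u * ((g 1 * g 0) * (g 1 * g 0)))) := by simp only [mul_assoc]; rfl
        _ = 1 := by rw [gv, gv', ← mul_inv_rev]; exact hri D.uR (mul_mem hvN hvN)
    · calc _ = u * ((g 0 * g 1) * (g 0 * g 1) * (g 2 * g 3) * u * ((g 3 * g 2) * ((g 1 * g 0) * (g 1 * g 0)))) *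
            (u * ((g 0 * g 1) * (g 0 * g 1) * (g 2 * g 3) * u * ((g 3 * g 2) * ((g 1 * g 0) * (g 1 * g 0))))) := by
            simp only [mul_assoc]; rfl
        _ = 1 := by
          rw [gv, gv', gt', gt2, ← mul_inv_rev, ← mul_inv_rev]
          exact hri D.uR (mul_mem (mul_mem hvN hvN) htN)
    · calc _ = u * ((g 0 * g 1) * (g 0 * g 1) * (g 2 * g 3) * (g 2 * g 3) * u *
              ((g 3 * g 2) * ((g 3 * g 2) * ((g 1 * g 0) * (g 1 * g 0))))) *
            (u * ((g 0 * g 1) * (g 0 * g 1) * (g 2 * g 3) * (g 2 * g 3) * u *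
              ((g 3 * g 2) * ((g 3 * g 2) * ((g 1 * g 0) * (g 1 * g 0)))))) := by simp only [mul_assoc]; rfl
        _ = 1 := by
          rw [gv, gv', gt', gt2, ← mul_inv_rev, ← mul_inv_rev, ← mul_inv_rev]
          exact hri D.uR (mul_mem (mul_mem (mul_mem hvN hvN) htN) htN)
    · calc _ = u * ((g 2 * g 3) * u * (g 3 * g 2)) * (u * ((g 2 * g 3) * u * (g 3 * g 2))) := by
            simp only [mul_assoc]; rfl
        _ = 1 := by rw [gt', gt2]; exact hri D.uR htN
    · calc _ = z * s * u * (z * s) * u * (z * s) * u := by simp only [mul_assoc]; rfl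
        _ = 1 := by
          rw [D.braid]
          calc u * (z * s) * u * u * (z * s) * u = u * (z * s) * (u * u) * (z * s) * u := by group
            _ = u * (z * s * (z * s)) * u := by rw [D.sq u D.uR]; group
            _ = 1 := by rw [hw2, mul_one, D.sq u D.uR]
  · intro w hw
    simp only [dWords, List.mem_cons, List.not_mem_nil, or_false] at hw
    rcases hw with rfl | rfl | rfl | rfl | rfl | rfl | rfl | rfl | rfl <;> simp only [Spor.Cos.ev, mul_one]
    · calc _ = d * z * (d * z) := by simp only [mul_assoc]; rfl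
        _ = 1 := sq_comm D.d2 hc.z_sq D.dz
    · calc _ = d * u * (d * u) := by simp only [mul_assoc]; rfl
        _ = 1 := sq_comm D.d2 (D.sq u D.uR) D.du
    · calc _ = d * (g 2 * g 3) * d * (g 3 * g 2) := by simp only [mul_assoc]; rfl
        _ = 1 := by rw [gt', gt2, D.dt, mul_assoc t d d, D.d2, mul_one, mul_inv_cancel]
    · calc _ = d * (s * d * s) * (d * (s * d * s)) * z := by simp only [mul_assoc]; rfl
        _ = 1 := by rw [D.ds, hc.z_sq]
    · calc _ = (g 0 * g 1) * u * (g 1 * g 0) * d * ((g 0 * g 1) * u * (g 1 * g 0)) * d * u := by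
            simp only [mul_assoc]; rfl
        _ = 1 := by
          rw [gv, gv']
          calc v * u * v⁻¹ * d * (v * u * v⁻¹) * d * u
              = (d * d) * (v * u * v⁻¹ * d * (v * u * v⁻¹) * d) * u := by rw [D.d2, one_mul]
            _ = d * (d * (v * u * v⁻¹) * d * (v * u * v⁻¹)) * d * u := by group
            _ = d * u * d * u := by rw [D.dr]
            _ = 1 := by rw [D.du, mul_assoc u, D.d2, mul_one, D.sq u D.uR]
    · calc _ = (d * ((g 0 * g 1) * (g 0 * g 1))) ^ 3 := by simp only [pow_succ, pow_zero, one_mul, mul_assoc]; rfl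
        _ = 1 := by rw [gv, k1]
    · calc _ = (d * (g 0 * g 1)) ^ 5 := by simp only [pow_succ, pow_zero, one_mul, mul_assoc]; rfl
        _ = 1 := by rw [gv, k2]
    · calc _ = (z * d * (g 0 * g 1)) ^ 3 := by simp only [pow_succ, pow_zero, one_mul, mul_assoc]; rfl
        _ = 1 := by rw [gv, k3]
    · calc _ = (d * (s * d * s) * g 1) ^ 5 := by simp only [pow_succ, pow_zero, one_mul, mul_assoc]; rfl
        _ = 1 := by
          have hj2 : s * d * s * (s * d * s) = 1 := by
            calc s * d * s * (s * d * s) = s * d * (s * s) * d * s := by group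
              _ = s * (d * d) * s := by rw [D.s2]; group
              _ = 1 := by rw [D.d2, mul_one, D.s2]
          have hjt : (s * d * s) * t = t * (s * d * s) := by
            have hst : s * t = t⁻¹ * s := mul_inv_eq_iff_eq_mul.1 D.st
            have hst' : s * t⁻¹ = t * s := by
              calc s * t⁻¹ = t * (t⁻¹ * s) * t⁻¹ := by group
                _ = t * s := by rw [← hst]; group
            have hdt' : d * t⁻¹ = t⁻¹ * d := (show Commute d t from D.dt).inv_right.eq
            calc s * d * s * t = s * d * (t⁻¹ * s) := by rw [mul_assoc _ s t, hst]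
              _ = s * (d * t⁻¹) * s := by group
              _ = (s * t⁻¹) * d * s := by rw [hdt']; group
              _ = t * (s * d * s) := by rw [hst']; group
          refine three_five h D.t3 D.zt D.dt hjt (hzt.mul_left hvt).eq D.d2 hj2 (gsq 1) D.dz.symm ?_ D.ds ?_
          · exact (hzs.mul_right (show Commute d z from D.dz).symm).mul_right hzs
          · have e := gv; rw [← D.v5, ← e]; rfl

/-- A group of this type is the third Janko group. -/
theorem iso_presented [IsSimpleGroup G] (h : Invol.J3Type.Setting z Q) :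
    Nonempty (Cfsg.Agent.Spor.Cos.J3.P ≃* G) := by
  obtain ⟨g, hinv, hh, hd, h5⟩ := exists_gens h
  exact iso_of_gens (order_eq h) hinv hh hd h5

end Cfsg.Agent.Fus.J3Uniq
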