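import Cfsg.Agent.Lib.Fus.J3Uniq.Words
import Cfsg.Agent.Lib.Spor.Cos.J3.Order
import Cfsg.Agent.Lib.Spor.Cos.J3.IsSimple

/-!
# The six generators inside the presented group
-/

set_option autoImplicit false
set_option maxRecDepth 100000

open Cfsg.Agent.Spor.Cos

namespace Cfsg.Agent.Fus.J3Uniq

/-- The six letters in the presented group. -/
noncomputable def xg (i : ℕ) : J3.P := ev J3.g (pWords.getD i [])

theorem ev_flatMap {G : Type*} [Group G] (g : ℕ → G) (f : ℕ → List ℕ) :
    ∀ w : List ℕ, ev (fun i => ev g (f i)) w = ev g (w.flatMap f)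
  | [] => rfl
  | s :: w => by simp only [ev, List.flatMap_cons, ev_append, ev_flatMap g f w]

/-- A word fixing the three base points is trivial. -/
theorem ev_eq_one {w : List ℕ} (h : (w.all fun s => Nat.blt s J3.actA.n) = true)
    (h0 : ([0, 5, 1].all fun p => Nat.beq (J3.actA.go w p) p) = true) : ev J3.g w = 1 :=
  J3.det _ fun q hq => Fin.ext ((J3.homA.apply_ev w (fun s hs => Nat.le_of_ble_eq_true (List.all_eq_true.1 h s hs)) q).trans
    (Nat.eq_of_beq_eq_true (List.all_eq_true.1 h0 _ hq)))

/-- The check of a word in the six letters. -/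
noncomputable def chk (w : List ℕ) : Bool :=
  (fun v : List ℕ => (v.all fun s => Nat.blt s J3.actA.n) && [0, 5, 1].all fun p => Nat.beq (J3.actA.go v p) p)
    (w.flatMap fun i => pWords.getD i [])

theorem ev_xg {w : List ℕ} (h : chk w = true) : ev xg w = 1 := by
  simp only [chk, Bool.and_eq_true] at h
  show ev (fun i => ev J3.g (pWords.getD i [])) w = 1
  rw [ev_flatMap]
  exact ev_eq_one h.1 h.2

theorem h_chk : hWords.all chk = true := by decide +kernel

theorem d_chk : dWords.all chk = true := by decide +kernel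

theorem sq_chk : (List.range 6).all (fun i => chk [i, i]) = true := by decide +kernel

theorem xg_h : ∀ w ∈ hWords, ev xg w = 1 := fun w hw => ev_xg (List.all_eq_true.1 h_chk w hw)

theorem xg_d : ∀ w ∈ dWords, ev xg w = 1 := fun w hw => ev_xg (List.all_eq_true.1 d_chk w hw)

theorem xg_out (s : ℕ) (h : 6 ≤ s) : xg s = 1 := by
  rw [xg, List.getD_eq_default _ _ (show pWords.length ≤ s from h)]
  rfl

theorem xg_sq (s : ℕ) : xg s * xg s = 1 := by
  by_cases h : s < 6
  · have := ev_xg (List.all_eq_true.1 sq_chk s (List.mem_range.2 h))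
    simpa [ev] using this
  · rw [xg_out s (by omega), one_mul]

theorem back_chk : (List.range 4).all (fun i => (fun v : List ℕ =>
    (v.all fun s => Nat.blt s J3.actA.n) && [0, 5, 1].all fun p => Nat.beq (J3.actA.go v p) p)
      (i :: (backWords.getD i []).flatMap fun j => pWords.getD j [])) = true := by decide +kernel

/-- The six letters generate. -/
theorem xg_gen : Subgroup.closure {x | ∃ s < 6, xg s = x} = ⊤ := by
  rw [← top_le_iff, ← J3.g_gen, Subgroup.closure_le]
  rintro _ ⟨i, hi, rfl⟩
  have h := List.all_eq_true.1 back_chk i (List.mem_range.2 hi)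
  rw [Bool.and_eq_true] at h
  have e := ev_eq_one h.1 h.2
  rw [ev, ← ev_flatMap J3.g fun j => pWords.getD j []] at e
  show J3.g i ∈ Subgroup.closure {x | ∃ s < 6, xg s = x}
  rw [show J3.g i = (ev xg (backWords.getD i []))⁻¹ from eq_inv_of_mul_eq_one_left e]
  refine Subgroup.inv_mem _ (ev_mem _ fun s hs => ?_)
  by_cases h6 : s < 6
  · exact Subgroup.subset_closure ⟨s, h6, rfl⟩
  · rw [xg_out s (by omega)]
    exact Subgroup.one_mem _

end Cfsg.Agent.Fus.J3Uniq
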