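import Cfsg.Agent.Lib.Invol.J3Type.LTwoSixteen.Relation

/-!
# The fixed points of `z` in the group of order sixteen
-/

set_option autoImplicit false
set_option linter.unusedSectionVars false
set_option linter.style.haveILetI false

namespace Cfsg.Agent.Fus.J3Uniq

open Cfsg Cfsg.Agent.Invol.HJ Cfsg.Agent.Invol.J3Type Cfsg.Agent.Invol.J3Type.LTwoSixteen

/-- A frame with a point fixed by `z` and its braid relation. -/
structure Point {G : Type*} [Group G] (z : G) (R : Subgroup G) (v t s u : G) : Prop extends Frame z R v t s where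
  uR : u ∈ R
  u1 : u ≠ 1
  zu : z * u = u * z
  trip : t * (t * u * t⁻¹) * t⁻¹ = u * (t * u * t⁻¹)
  braid : z * s * u * (z * s) = u * (z * s) * u

variable {G : Type*} [Group G] {z v t s u : G} {R : Subgroup G}

namespace Point

variable (P : Point z R v t s u)
include P

theorem vpow : v ^ 5 = 1 := P.v5 ▸ pow_orderOf_eq_one v

theorem tpow : t * t * t = 1 := P.toFrame.t_pow

theorem conjR {g m : G} (hg : g ∈ Subgroup.normalizer (R : Set G)) (hm : m ∈ R) : g * m * g⁻¹ ∈ R :=
  P.toFrame.conjR hg hm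

theorem aR : t * u * t⁻¹ ∈ R := P.conjR P.tR P.uR

theorem za : z * (t * u * t⁻¹) = t * u * t⁻¹ * z :=
  (((show Commute z t from P.zt).mul_right P.zu).mul_right (show Commute z t from P.zt).inv_right).eq

theorem zua : z * (u * (t * u * t⁻¹)) = u * (t * u * t⁻¹) * z :=
  ((show Commute z u from P.zu).mul_right P.za).eq

theorem a1 : t * u * t⁻¹ ≠ 1 := fun e => P.u1 (conj_eq_one_iff.1 e)

theorem au : t * u * t⁻¹ ≠ u := fun e => P.u1 (P.tfix u P.uR (mul_inv_eq_iff_eq_mul.1 e))

theorem ua1 : u * (t * u * t⁻¹) ≠ 1 := fun e =>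
  P.au ((eq_inv_of_mul_eq_one_right e).trans (inv_eq_of_mul_eq_one_right (P.sq u P.uR)))

/-- The only fixed points of `z` in `R` form a four group. -/
theorem fixed_four [Finite G] (hz2 : z * z = 1) {x : G} (hx : x ∈ R) (hzx : z * x = x * z) :
    x = 1 ∨ x = u ∨ x = t * u * t⁻¹ ∨ x = u * (t * u * t⁻¹) := by
  classical
  have hzi : z⁻¹ = z := inv_eq_of_mul_eq_one_right hz2
  let ψ : R →* R :=
    { toFun := fun m => ⟨(m : G) * (z * m * z⁻¹), R.mul_mem m.2 (P.conjR P.zR m.2)⟩
      map_one' := Subtype.ext (by simp)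
      map_mul' := fun m k => Subtype.ext (by
        show (m : G) * k * (z * ((m : G) * k) * z⁻¹) = m * (z * m * z⁻¹) * (k * (z * k * z⁻¹))
        rw [← conj_mul]
        calc (m : G) * k * (z * m * z⁻¹ * (z * k * z⁻¹)) = (m : G) * (k * (z * m * z⁻¹)) * (z * k * z⁻¹) := by group
          _ = (m : G) * (z * m * z⁻¹ * k) * (z * k * z⁻¹) := by rw [P.comm k k.2 _ (P.conjR P.zR m.2)]
          _ = _ := by group) }
  have hψ : ∀ m : R, ψ m = 1 ↔ z * (m : G) = m * z := by
    intro m
    have hm : (m : G)⁻¹ = m := inv_eq_of_mul_eq_one_right (P.sq m m.2)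
    constructor
    · intro e
      have e1 : (m : G) * (z * m * z⁻¹) = 1 := congrArg Subtype.val e
      have e2 := (inv_eq_of_mul_eq_one_right e1).symm
      rw [hm] at e2
      exact mul_inv_eq_iff_eq_mul.1 e2
    · intro e
      refine Subtype.ext ?_
      show (m : G) * (z * m * z⁻¹) = 1
      rw [e, mul_inv_cancel_right, P.sq m m.2]
  have hle : ψ.range ≤ ψ.ker := by
    rintro _ ⟨m, rfl⟩
    refine (hψ _).2 ?_
    show z * ((m : G) * (z * m * z⁻¹)) = (m : G) * (z * m * z⁻¹) * z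
    have hm' : z * (m : G) * z ∈ R := by
      have := P.conjR P.zR m.2
      rwa [hzi] at this
    rw [hzi, P.comm m m.2 (z * m * z) hm']
    calc z * (z * (m : G) * z * m) = z * z * ((m : G) * z * m) := by group
      _ = (m : G) * z * m * (z * z) := by rw [hz2, one_mul, mul_one]
      _ = (m : G) * (z * m * z) * z := by group
      _ = z * m * z * m * z := by rw [P.comm m m.2 (z * m * z) hm']
  have hcard : Nat.card ψ.range * Nat.card ψ.ker = 16 := by
    rw [← P.card, Subgroup.card_eq_card_quotient_mul_card_subgroup ψ.ker,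
      Nat.card_congr (QuotientGroup.quotientKerEquivRange ψ).toEquiv]
  let r : R := ⟨v * u * v⁻¹, P.conjR P.vR P.uR⟩
  have hr : ψ r ≠ 1 := by
    intro e
    have e1 : z * (v * u * v⁻¹) * z⁻¹ = v * u * v⁻¹ := by
      rw [(hψ r).1 e, mul_inv_cancel_right]
    rw [show z * (v * u * v⁻¹) * z⁻¹ = (z * v * z⁻¹) * (z * u * z⁻¹) * (z * v * z⁻¹)⁻¹ by group, P.zv,
      P.zu, mul_inv_cancel_right] at e1
    have h2 : Commute (v * v) u := by
      show v * v * u = u * (v * v)
      calc v * v * u = v * (v * u * v⁻¹) * v := by group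
        _ = v * (v⁻¹ * u * v⁻¹⁻¹) * v := by rw [e1]
        _ = u * (v * v) := by group
    have h6 : Commute v u := by
      have := h2.pow_left 3
      rwa [← pow_two, ← pow_mul, show 2 * 3 = 5 + 1 from rfl, pow_succ, P.vpow, one_mul] at this
    exact P.u1 (P.vfix u P.uR h6.eq)
  have hr3 : 3 ≤ Nat.card ψ.range := by
    have haT : t * (ψ r : G) * t⁻¹ = (ψ ⟨t * r * t⁻¹, P.conjR P.tR r.2⟩ : G) := by
      show t * ((r : G) * (z * r * z⁻¹)) * t⁻¹ = t * r * t⁻¹ * (z * (t * r * t⁻¹) * z⁻¹)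
      rw [show z * (t * (r : G) * t⁻¹) * z⁻¹ = (z * t) * r * (z * t)⁻¹ by group, P.zt]
      group
    let w : Fin 3 → ψ.range := ![1, ⟨ψ r, r, rfl⟩, ⟨ψ ⟨t * r * t⁻¹, P.conjR P.tR r.2⟩, _, rfl⟩]
    have h0 : (ψ r : G) ≠ 1 := fun e => hr (Subtype.ext e)
    have h01 : (ψ ⟨t * r * t⁻¹, P.conjR P.tR r.2⟩ : G) ≠ 1 := by
      rw [← haT]; exact fun e => h0 (conj_eq_one_iff.1 e)
    have h12 : (ψ ⟨t * r * t⁻¹, P.conjR P.tR r.2⟩ : G) ≠ ψ r := by
      rw [← haT]; exact fun e => h0 (P.tfix _ (ψ r).2 (mul_inv_eq_iff_eq_mul.1 e))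
    have hw : Function.Injective w := by
      intro p q e
      have e' := congrArg (fun x : ψ.range => ((x : R) : G)) e
      fin_cases p <;> fin_cases q <;> first | rfl | (exfalso; simp [w] at e') | skip
      all_goals first
        | exact absurd e' h0 | exact absurd e'.symm h0 | exact absurd e' h01 | exact absurd e'.symm h01
        | exact absurd e' h12 | exact absurd e'.symm h12
        | exact absurd (congrArg Subtype.val e') h12 | exact absurd (congrArg Subtype.val e').symm h12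
        | exact absurd (congrArg Subtype.val e') h0 | exact absurd (congrArg Subtype.val e').symm h0
        | exact absurd (congrArg Subtype.val e') h01 | exact absurd (congrArg Subtype.val e').symm h01
    simpa using Nat.card_le_card_of_injective w hw
  have hk : Nat.card ψ.ker ≤ 5 := by
    by_contra hcon
    nlinarith
  have hk4 : Nat.card ψ.ker ≤ 4 := by
    have : Nat.card ψ.ker ∣ 16 := ⟨Nat.card ψ.range, by rw [← hcard, mul_comm]⟩
    have h5 : Nat.card ψ.ker ≠ 5 := fun e => by rw [e] at this; norm_num at this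
    omega
  by_contra hcon
  push Not at hcon
  obtain ⟨n1, n2, n3, n4⟩ := hcon
  let w : Fin 5 → ψ.ker := ![1, ⟨⟨u, P.uR⟩, (hψ _).2 P.zu⟩, ⟨⟨_, P.aR⟩, (hψ _).2 P.za⟩,
    ⟨⟨_, R.mul_mem P.uR P.aR⟩, (hψ _).2 P.zua⟩, ⟨⟨x, hx⟩, (hψ _).2 hzx⟩]
  have hua : u * (t * u * t⁻¹) ≠ u := fun e => P.a1 (mul_eq_left.1 e)
  have hua' : u * (t * u * t⁻¹) ≠ t * u * t⁻¹ := fun e => P.u1 (mul_eq_right.1 e)
  have hw : Function.Injective w := by
    intro p q e
    have e' := congrArg (fun m : ψ.ker => ((m : R) : G)) e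
    fin_cases p <;> fin_cases q <;> first | rfl | skip
    all_goals
      simp only [w] at e'
      first
        | exact absurd e' P.u1 | exact absurd e'.symm P.u1 | exact absurd e' P.a1 | exact absurd e'.symm P.a1
        | exact absurd e' P.au | exact absurd e'.symm P.au | exact absurd e' P.ua1 | exact absurd e'.symm P.ua1
        | exact absurd e' hua | exact absurd e'.symm hua | exact absurd e' hua' | exact absurd e'.symm hua'
        | exact absurd e' n1 | exact absurd e'.symm n1 | exact absurd e' n2 | exact absurd e'.symm n2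
        | exact absurd e' n3 | exact absurd e'.symm n3 | exact absurd e' n4 | exact absurd e'.symm n4
  have := Nat.card_le_card_of_injective w hw
  rw [Nat.card_fin] at this
  exact absurd (this.trans hk4) (by norm_num)

theorem v_ne : v * v ≠ 1 := fun e => by
  have := orderOf_dvd_of_pow_eq_one (show v ^ 2 = 1 by rw [pow_two, e])
  rw [P.v5] at this
  norm_num at this

/-- Squaring `v`. -/
theorem sqv : Point z R (v * v) t s u :=
  { P with
    v5 := by
      haveI : Fact (Nat.Prime 5) := ⟨by norm_num⟩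
      refine orderOf_eq_prime ?_ P.v_ne
      rw [← pow_two, ← pow_mul, mul_comm, pow_mul, P.vpow, one_pow]
    vt := ((show Commute v t from P.vt).mul_left (show Commute v t from P.vt)).eq
    vR := mul_mem P.vR P.vR
    vfix := fun m hm e => P.vfix m hm (by
      have := (show Commute (v * v) m from e).pow_left 3
      rw [← pow_two, ← pow_mul, show 2 * 3 = 5 + 1 from rfl, pow_succ, P.vpow, one_mul] at this
      exact this.eq)
    zv := by rw [← conj_mul, P.zv, mul_inv_rev]
    sv := ((show Commute s v from P.sv).mul_right (show Commute s v from P.sv)).eq }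

theorem zr : z * (v * u * v⁻¹) * z⁻¹ = v⁻¹ * u * v := by
  rw [show z * (v * u * v⁻¹) * z⁻¹ = (z * v * z⁻¹) * (z * u * z⁻¹) * (z * v * z⁻¹)⁻¹ by group, P.zv, P.zu,
    mul_inv_cancel_right, inv_inv]

theorem rR : v * u * v⁻¹ ∈ R := P.conjR P.vR P.uR

theorem r'R : v⁻¹ * u * v ∈ R := by
  have := P.conjR (inv_mem P.vR) P.uR
  rwa [inv_inv] at this

/-- One of the two powers of `v` has trace the generator given by `t`. -/
theorem exists_oriented [Finite G] (hz2 : z * z = 1) :
    ∃ v', Point z R v' t s u ∧ v' * u * v'⁻¹ * (v'⁻¹ * u * v') = t * u * t⁻¹ := by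
  set a := t * u * t⁻¹ with ha
  set r := v * u * v⁻¹ with hr
  set r' := v⁻¹ * u * v with hr'
  have hzi : z⁻¹ = z := inv_eq_of_mul_eq_one_right hz2
  have hzr' : z * r' * z⁻¹ = r := by
    rw [hr', ← P.zr, show z * (z * (v * u * v⁻¹) * z⁻¹) * z⁻¹ = (z * z) * (v * u * v⁻¹) * (z * z)⁻¹ by group,
      hz2, inv_one, one_mul, mul_one]
  have hfix : z * (r * r') = r * r' * z := by
    refine mul_inv_eq_iff_eq_mul.1 ?_
    rw [← conj_mul, P.zr, hzr', P.comm _ P.r'R _ P.rR]
  have hrR : r ∈ R := P.rR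
  have hr'R : r' ∈ R := P.r'R
  have hri : r⁻¹ = r := inv_eq_of_mul_eq_one_right (P.sq _ P.rR)
  have hr'2 : r' * r' = 1 := P.sq _ P.r'R
  rcases P.fixed_four hz2 (R.mul_mem P.rR P.r'R) hfix with e | e | e | e
  · exfalso
    have hrr : r' = r := (inv_eq_of_mul_eq_one_right e).symm.trans hri
    have h2 : Commute (v * v) u := by
      show v * v * u = u * (v * v)
      calc v * v * u = v * r * v := by rw [hr]; group
        _ = v * r' * v := by rw [hrr]
        _ = u * (v * v) := by rw [hr']; group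
    have h6 := h2.pow_left 3
    rw [← pow_two, ← pow_mul, show 2 * 3 = 5 + 1 from rfl, pow_succ, P.vpow, one_mul] at h6
    exact P.u1 (P.vfix u P.uR h6.eq)
  · exfalso
    have e2 : v * r * v⁻¹ = r * u := by
      have h1 : v * r * v⁻¹ * u = r := by
        calc v * r * v⁻¹ * u = v * r * v⁻¹ * (v * r' * v⁻¹) := by rw [hr']; group
          _ = v * (r * r') * v⁻¹ := conj_mul
          _ = r := by rw [e]
      calc v * r * v⁻¹ = v * r * v⁻¹ * u * u := by rw [mul_assoc (v * r * v⁻¹) u u, P.sq u P.uR, mul_one]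
        _ = r * u := by rw [h1]
    have e3 : v * (v * r * v⁻¹) * v⁻¹ = u := by
      rw [e2, ← conj_mul, e2, ← hr, mul_assoc, P.comm u P.uR r P.rR, ← mul_assoc, P.sq r P.rR, one_mul]
    have h3 : Commute (v ^ 3) u := by
      rw [show v ^ 3 = v * v * v by rw [pow_succ, pow_succ, pow_one]]
      show v * v * v * u = u * (v * v * v)
      calc v * v * v * u = v * (v * (v * u * v⁻¹) * v⁻¹) * v⁻¹ * (v * v * v) := by group
        _ = u * (v * v * v) := by rw [← hr, e3]
    have h6 := h3.pow_left 2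
    rw [← pow_mul, show 3 * 2 = 5 + 1 from rfl, pow_succ, P.vpow, one_mul] at h6
    exact P.u1 (P.vfix u P.uR h6.eq)
  · exact ⟨v, P, e⟩
  · refine ⟨v * v, P.sqv, ?_⟩
    have hvt : Commute v t := P.vt
    have hb : ∀ g : G, Commute g t → g * (t * u * t⁻¹) * g⁻¹ = t * (g * u * g⁻¹) * t⁻¹ := fun g hg => by
      calc g * (t * u * t⁻¹) * g⁻¹ = (g * t) * u * (g * t)⁻¹ := by group
        _ = (t * g) * u * (t * g)⁻¹ := by rw [hg.eq]
        _ = t * (g * u * g⁻¹) * t⁻¹ := by group
    have e1 : v * v * u * (v * v)⁻¹ = u * (r * (t * r * t⁻¹)) := by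
      have h1 : v * (r * r') * v⁻¹ = r * (t * r * t⁻¹) := by rw [e, ← conj_mul, hb v hvt]
      calc v * v * u * (v * v)⁻¹ = v * r * v⁻¹ * (u * u) := by rw [hr, P.sq u P.uR, mul_one]; group
        _ = v * r * v⁻¹ * (v * r' * v⁻¹) * u := by rw [hr']; group
        _ = r * (t * r * t⁻¹) * u := by rw [conj_mul, h1]
        _ = _ := P.comm _ (R.mul_mem P.rR (P.conjR P.tR P.rR)) _ P.uR
    have e2 : (v * v)⁻¹ * u * (v * v) = u * (r' * (t * r' * t⁻¹)) := by
      have h1 : v⁻¹ * (r * r') * v⁻¹⁻¹ = r' * (t * r' * t⁻¹) := by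
        rw [e, ← conj_mul, hb v⁻¹ hvt.inv_left, inv_inv]
      calc (v * v)⁻¹ * u * (v * v) = v⁻¹ * r' * v⁻¹⁻¹ := by rw [hr']; group
        _ = (v⁻¹ * r * v⁻¹⁻¹ * (v⁻¹ * r * v⁻¹⁻¹)) * (v⁻¹ * r' * v⁻¹⁻¹) := by
            rw [conj_mul, P.sq r P.rR]; group
        _ = u * (v⁻¹ * r * v⁻¹⁻¹ * (v⁻¹ * r' * v⁻¹⁻¹)) := by rw [hr]; group
        _ = _ := by rw [conj_mul, h1]
    rw [e1, e2]
    have htr : t * r * t⁻¹ ∈ R := P.conjR P.tR hrR
    have htr' : t * r' * t⁻¹ ∈ R := P.conjR P.tR hr'R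
    calc u * (r * (t * r * t⁻¹)) * (u * (r' * (t * r' * t⁻¹)))
        = u * ((r * (t * r * t⁻¹)) * u) * (r' * (t * r' * t⁻¹)) := by group
      _ = u * u * (r * (t * r * t⁻¹) * (r' * (t * r' * t⁻¹))) := by
          rw [P.comm _ (R.mul_mem hrR htr) _ P.uR]; group
      _ = r * ((t * r * t⁻¹) * r') * (t * r' * t⁻¹) := by rw [P.sq u P.uR]; group
      _ = r * r' * (t * (r * r') * t⁻¹) := by rw [P.comm _ htr _ hr'R]; group
      _ = u * (t * u * t⁻¹) * (t * u * t⁻¹ * (t * (t * u * t⁻¹) * t⁻¹)) := by rw [e, ← conj_mul]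
      _ = u * ((t * u * t⁻¹) * (t * u * t⁻¹)) * (u * (t * u * t⁻¹)) := by rw [P.trip]; group
      _ = a := by rw [P.sq _ P.aR, mul_one, ← mul_assoc, P.sq u P.uR, one_mul]

end Point

end Cfsg.Agent.Fus.J3Uniq
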