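import Cfsg.Agent.Lib.Spor.Cos.Bound
import Cfsg.Agent.Lib.Fus.J3Uniq.Cert.HsCert
import Cfsg.Agent.Lib.Fus.J3Uniq.Cert.TopCert

/-!
# A bound from the relations of the generators of a group of Janko three type

The letters are `z, m, s, n, u, d`, with `z * m` of order five and `s * n` of order three.
-/

set_option autoImplicit false
set_option maxRecDepth 100000

open Cfsg.Agent.Spor.Cos

namespace Cfsg.Agent.Fus.J3Uniq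

/-- The relations of the first five letters. -/
def hWords : List (List ℕ) := [[0, 1, 0, 1, 0, 1, 0, 1, 0, 1],
  [2, 3, 2, 3, 2, 3],
  [0, 2, 0, 2],
  [0, 3, 0, 3],
  [1, 2, 1, 2],
  [1, 3, 1, 3],
  [0, 4, 0, 4],
  [2, 3, 2, 3, 4, 3, 2, 3, 2, 2, 3, 4, 3, 2, 4],
  [0, 1, 4, 1, 0, 1, 0, 4, 0, 1, 2, 3, 4, 3, 2],
  [4, 0, 1, 4, 1, 0, 4, 0, 1, 4, 1, 0],
  [4, 0, 1, 2, 3, 4, 3, 2, 1, 0, 4, 0, 1, 2, 3, 4, 3, 2, 1, 0],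
  [4, 0, 1, 2, 3, 2, 3, 4, 3, 2, 3, 2, 1, 0, 4, 0, 1, 2, 3, 2, 3, 4, 3, 2, 3, 2, 1, 0],
  [4, 0, 1, 0, 1, 4, 1, 0, 1, 0, 4, 0, 1, 0, 1, 4, 1, 0, 1, 0],
  [4, 0, 1, 0, 1, 2, 3, 4, 3, 2, 1, 0, 1, 0, 4, 0, 1, 0, 1, 2, 3, 4, 3, 2, 1, 0, 1, 0],
  [4, 0, 1, 0, 1, 2, 3, 2, 3, 4, 3, 2, 3, 2, 1, 0, 1, 0, 4, 0, 1, 0, 1, 2, 3, 2, 3, 4, 3, 2, 3, 2, 1, 0, 1, 0],
  [4, 2, 3, 4, 3, 2, 4, 2, 3, 4, 3, 2],
  [0, 2, 4, 0, 2, 4, 0, 2, 4]]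

/-- The relations involving the last letter. -/
def dWords : List (List ℕ) := [[5, 0, 5, 0],
  [5, 4, 5, 4],
  [5, 2, 3, 5, 3, 2],
  [5, 2, 5, 2, 5, 2, 5, 2, 0],
  [0, 1, 4, 1, 0, 5, 0, 1, 4, 1, 0, 5, 4],
  [5, 0, 1, 0, 1, 5, 0, 1, 0, 1, 5, 0, 1, 0, 1],
  [5, 0, 1, 5, 0, 1, 5, 0, 1, 5, 0, 1, 5, 0, 1],
  [0, 5, 0, 1, 0, 5, 0, 1, 0, 5, 0, 1],
  [5, 2, 5, 2, 1, 5, 2, 5, 2, 1, 5, 2, 5, 2, 1, 5, 2, 5, 2, 1, 5, 2, 5, 2, 1]]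

/-- The letters as words in the generators of the presented group. -/
def pWords : List (List ℕ) := [[2],
  [1, 2, 1, 0, 2, 1, 0, 1, 0, 1, 2, 0],
  [0, 2, 0],
  [1, 2, 1],
  [0, 1, 2, 0, 2, 1, 2, 0, 2, 1, 0],
  [1, 0, 3, 0, 3, 2, 0, 1, 0, 1, 0, 1, 0, 3, 1, 0, 1, 2, 0, 2, 0, 1, 2, 0, 1, 0, 1, 0, 1]]

/-- The generators of the presented group as words in the letters. -/
def backWords : List (List ℕ) := [[1, 4, 2, 3, 2, 1, 4, 1],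
  [2, 1, 4, 2, 1, 4, 3, 4, 1, 0, 1],
  [0],
  [5, 2, 1, 4, 3, 4, 1, 0, 1, 5, 4, 2, 5, 3, 2, 4, 1, 4, 3, 4, 3, 0]]

/-- Six involutions with these relations generate a group of order at most three times the order of `J₃`. -/
theorem card_le {G : Type*} [Group G] {g : ℕ → G} (hinv : ∀ s, g s * g s = 1)
    (hh : ∀ w ∈ hWords, ev g w = 1) (hd : ∀ w ∈ dWords, ev g w = 1) :
    Bound g [0, 1, 2, 3, 4, 5] 150698880 := by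
  have hw : ∀ w ∈ hWords ++ dWords, ev g w = 1 := fun w hw => (List.mem_append.1 hw).elim (hh w) (hd w)
  have h0 : Bound g [] 1 := Bound.nil
  have h1 : Bound g [0, 1, 2, 3, 4] 8160 :=
    Bound.step (d := 6) hinv h0 Cert.hs Cert.hs_checks rfl (by decide +kernel)
      (hbase_of hinv hw (n := 6) (by decide +kernel)) Cert.hs_derived
  exact Bound.step (d := 6) hinv h1 Cert.top Cert.top_checks rfl (by decide +kernel)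
    (hbase_of hinv hw (n := 6) (by decide +kernel)) Cert.top_derived

end Cfsg.Agent.Fus.J3Uniq
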